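import Groth.Agent.L22.PicGlue.Cocycle
import Groth.Agent.L22.CurveDeg.Det.ExtPow
import Groth.Agent.L15.Ref.ExtPow
import Groth.Agent.L04.FinLocFreeHom
import Groth.Agent.L20.ResAmple

/-!
Existence of the determinant of a locally free module of constant rank.
-/

set_option autoImplicit false
set_option backward.isDefEq.respectTransparency false
set_option linter.style.haveILetI false
universe u

open CategoryTheory CategoryTheory.Limits AlgebraicGeometry TopologicalSpace Opposite

noncomputable section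

namespace Groth.L22.Adjunction

open Groth.L18.Frame (rs ro rs_rs rs_self rs_smul ro_ro)
open Groth.L22.CurveDeg.Det (IsBasisS exists_affine_basis bijective_smul_wedge)
open Groth.L22.PicGlue
open Groth.L21.Extend (rO)

variable {X : Scheme.{u}} {n : ℕ} {E : X.Modules}

section Coord

variable {U : X.Opens} {e : Fin n → Γ(E, U)} (he : IsBasisS E e)

/-- The coordinates with respect to a basis. -/
def cf {W : X.Opens} (h : W ≤ U) (m : Γ(E, W)) : Fin n → Γ(X, W) := Function.surjInv (he W h).2 m

theorem cf_spec {W : X.Opens} (h : W ≤ U) (m : Γ(E, W)) : ∑ j, cf he h m j • rs E h (e j) = m :=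
  Function.surjInv_eq (he W h).2 m

theorem cf_unique {W : X.Opens} (h : W ≤ U) {m : Γ(E, W)} {r : Fin n → Γ(X, W)}
    (hr : ∑ j, r j • rs E h (e j) = m) : cf he h m = r :=
  (he W h).1 ((cf_spec he h m).trans hr.symm)

theorem cf_rs {W W' : X.Opens} (h : W ≤ U) (h' : W' ≤ W) (m : Γ(E, W)) :
    cf he (h'.trans h) (rs E h' m) = fun j => ro h' (cf he h m j) := by
  refine cf_unique he _ ?_
  conv_rhs => rw [← cf_spec he h m]
  refine Eq.trans ?_ (map_sum (E.presheaf.map (homOfLE h').op).hom _ _).symm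
  refine Finset.sum_congr rfl fun j _ => ?_
  show _ = rs E h' _
  rw [rs_smul, rs_rs]

/-- The coordinates as a linear map. -/
def cfL {W : X.Opens} (h : W ≤ U) : Γ(E, W) →ₗ[Γ(X, W)] (Fin n → Γ(X, W)) where
  toFun := cf he h
  map_add' a b := cf_unique he h (by simp only [Pi.add_apply, add_smul, Finset.sum_add_distrib, cf_spec])
  map_smul' c a := cf_unique he h (by
    simp only [RingHom.id_apply, Pi.smul_apply, smul_eq_mul, mul_smul, ← Finset.smul_sum, cf_spec])

/-- The determinant of the coordinates. -/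
def dt {W : X.Opens} (h : W ≤ U) (s : Fin n → Γ(E, W)) : Γ(X, W) := (Matrix.of fun i => cf he h (s i)).det

theorem dt_rs {W W' : X.Opens} (h : W ≤ U) (h' : W' ≤ W) (s : Fin n → Γ(E, W)) :
    dt he (h'.trans h) (fun i => rs E h' (s i)) = ro h' (dt he h s) := by
  refine Eq.trans ?_ (RingHom.map_det (X.presheaf.map (homOfLE h').op).hom _).symm
  exact congrArg Matrix.det (Matrix.ext fun i j => congrFun (cf_rs he h h' (s i)) j)

theorem dt_self {W : X.Opens} (h : W ≤ U) : dt he h (fun i => rs E h (e i)) = 1 := by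
  rw [← Matrix.det_one (n := Fin n)]
  refine congrArg Matrix.det (Matrix.ext fun i j => ?_)
  refine congrFun (cf_unique he h (r := fun j => (1 : Matrix (Fin n) (Fin n) Γ(X, W)) i j) ?_) j
  simp [Matrix.one_apply]

theorem dt_change {U' : X.Opens} {e' : Fin n → Γ(E, U')} (he' : IsBasisS E e') {W : X.Opens} (h : W ≤ U)
    (h' : W ≤ U') (s : Fin n → Γ(E, W)) :
    dt he h s = dt he h (fun j => rs E h' (e' j)) * dt he' h' s := by
  rw [mul_comm, dt, dt, dt, ← Matrix.det_mul]
  refine congrArg Matrix.det (Matrix.ext fun i j => ?_)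
  refine congrFun (cf_unique he h (r := fun j => ∑ k, cf he' h' (s i) k * cf he h (rs E h' (e' k)) j) ?_) j
  simp only [Finset.sum_smul, mul_smul]
  rw [Finset.sum_comm]
  simp only [← Finset.smul_sum, cf_spec]

end Coord

variable (hE : FlatMod.IsFinLocFreeOfRank n E)

/-- The chosen charts. -/
def bU (x : X) : X.affineOpens := (exists_affine_basis hE x ⊤ trivial).choose

theorem exists_basis_at (x : X) : ∃ e : Fin n → Γ(E, (bU hE x).1), x ∈ (bU hE x).1 ∧ IsBasisS E e := by
  obtain ⟨e, hx, -, he⟩ := (exists_affine_basis hE x ⊤ trivial).choose_spec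
  exact ⟨e, hx, he⟩

/-- The chosen bases. -/
def bE (x : X) : Fin n → Γ(E, (bU hE x).1) := (exists_basis_at hE x).choose

theorem bE_spec (x : X) : x ∈ (bU hE x).1 ∧ IsBasisS E (bE hE x) := (exists_basis_at hE x).choose_spec

/-- The transition units of the determinant. -/
def detCocycle : Cocycle X where
  ι := X
  N x := (bU hE x).1
  g i j := dt (bE_spec hE i).2 inf_le_left fun k => rs E inf_le_right (bE hE j k)
  one i := dt_self (bE_spec hE i).2 (W := (bU hE i).1 ⊓ (bU hE i).1) inf_le_left
  comp i j k := by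
    show ro _ _ * ro _ _ = ro _ _
    rw [← dt_rs, ← dt_rs, ← dt_rs]
    simp only [rs_rs]
    exact (dt_change (bE_spec hE i).2 (bE_spec hE j).2 _ _ _).symm

theorem detCocycle_cond {V : X.Opens} (s : Fin n → Γ(E, V)) (i j : X) :
    rO X (le₁ (detCocycle hE) V i j) (dt (bE_spec hE i).2 (inf_le_right : V ⊓ (bU hE i).1 ≤ _) fun k => rs E inf_le_left (s k)) =
      rO X inf_le_right ((detCocycle hE).g i j) *
        rO X (le₂ (detCocycle hE) V i j) (dt (bE_spec hE j).2 (inf_le_right : V ⊓ (bU hE j).1 ≤ _) fun k => rs E inf_le_left (s k)) := by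
  show ro _ _ = ro _ (dt _ _ _) * ro _ _
  rw [← dt_rs, ← dt_rs, ← dt_rs]
  simp only [rs_rs]
  exact dt_change (bE_spec hE i).2 (bE_spec hE j).2 _ _ _

/-- The determinant line. -/
abbrev detLine : X.Modules := glueMod (detCocycle hE)

/-- The product of sections in the determinant line. -/
def wed {V : X.Opens} (s : Fin n → Γ(E, V)) : Γ(detLine hE, V) :=
  (exists_section (detCocycle hE) _ (detCocycle_cond hE s)).choose

theorem coords_wed {V : X.Opens} (s : Fin n → Γ(E, V)) (i : X) :
    coords (detCocycle hE) (wed hE s) i =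
      dt (bE_spec hE i).2 (inf_le_right : V ⊓ (bU hE i).1 ≤ _) fun k => rs E inf_le_left (s k) :=
  congrFun (exists_section (detCocycle hE) _ (detCocycle_cond hE s)).choose_spec i

theorem rs_wed {V V' : X.Opens} (h : V' ≤ V) (s : Fin n → Γ(E, V)) :
    rs (detLine hE) h (wed hE s) = wed hE fun k => rs E h (s k) := by
  refine coords_ext _ (funext fun i => ?_)
  rw [coords_rs, coords_wed, coords_wed]
  show ro _ _ = _
  rw [← dt_rs]
  exact congrArg (dt _ _) (funext fun k => (rs_rs _ _ _ _).trans (rs_rs _ _ _ _).symm)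

theorem wed_basis (x : X) {W : X.Opens} (h : W ≤ (bU hE x).1) :
    wed hE (fun k => rs E h (bE hE x k)) = rs (detLine hE) h (gen (detCocycle hE) x) := by
  conv_lhs => rw [← smul_gen_eq (detCocycle hE) x h (wed hE fun k => rs E h (bE hE x k))]
  have : coef (detCocycle hE) x h (wed hE fun k => rs E h (bE hE x k)) = 1 := by
    rw [coef, coords_wed]
    show ro _ _ = 1
    rw [← dt_rs]
    simp only [rs_rs]
    exact dt_self (bE_spec hE x).2 _
  rw [this, one_smul]
  rfl

/-- The determinant of the coordinates as an alternating map. -/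
def dtAlt (i : X) {V : X.Opens} :
    Γ(E, V ⊓ (bU hE i).1) [⋀^Fin n]→ₗ[Γ(X, V ⊓ (bU hE i).1)] Γ(X, V ⊓ (bU hE i).1) :=
  (Matrix.detRowAlternating : (Fin n → Γ(X, V ⊓ (bU hE i).1)) [⋀^Fin n]→ₗ[Γ(X, V ⊓ (bU hE i).1)] _).compLinearMap
    (cfL (bE_spec hE i).2 inf_le_right)

theorem coords_wed' {V : X.Opens} (s : Fin n → Γ(E, V)) (i : X) :
    coords (detCocycle hE) (wed hE s) i = dtAlt hE i fun k => rs E inf_le_left (s k) :=
  coords_wed hE s i

theorem wed_update_add {V : X.Opens} [DecidableEq (Fin n)] (v : Fin n → Γ(E, V)) (j : Fin n) (a b : Γ(E, V)) :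
    wed hE (Function.update v j (a + b)) = wed hE (Function.update v j a) + wed hE (Function.update v j b) := by
  refine coords_ext _ (funext fun i => ?_)
  show _ = coords _ (wed hE (Function.update v j a)) i + coords _ (wed hE (Function.update v j b)) i
  rw [coords_wed', coords_wed', coords_wed']
  have hu : ∀ z, (fun k => rs E (inf_le_left : V ⊓ (bU hE i).1 ≤ V) (Function.update v j z k)) =
      Function.update (fun k => rs E inf_le_left (v k)) j (rs E inf_le_left z) := fun z =>
    funext fun k => Function.apply_update (fun _ m => rs E (inf_le_left : V ⊓ (bU hE i).1 ≤ V) m) v j z k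
  rw [hu, hu, hu, show rs E (inf_le_left : V ⊓ (bU hE i).1 ≤ V) (a + b) = rs E inf_le_left a + rs E inf_le_left b
    from map_add _ _ _, AlternatingMap.map_update_add]

theorem wed_update_smul {V : X.Opens} [DecidableEq (Fin n)] (v : Fin n → Γ(E, V)) (j : Fin n) (c : Γ(X, V))
    (a : Γ(E, V)) : wed hE (Function.update v j (c • a)) = c • wed hE (Function.update v j a) := by
  refine coords_ext _ (funext fun i => ?_)
  rw [coords_smul, coords_wed', coords_wed']
  have hu : ∀ z, (fun k => rs E (inf_le_left : V ⊓ (bU hE i).1 ≤ V) (Function.update v j z k)) =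
      Function.update (fun k => rs E inf_le_left (v k)) j (rs E inf_le_left z) := fun z =>
    funext fun k => Function.apply_update (fun _ m => rs E (inf_le_left : V ⊓ (bU hE i).1 ≤ V) m) v j z k
  rw [hu, hu, rs_smul, AlternatingMap.map_update_smul]
  rfl

theorem wed_eq_zero {V : X.Opens} (v : Fin n → Γ(E, V)) {a b : Fin n} (hab : v a = v b) (hne : a ≠ b) :
    wed hE v = 0 := by
  refine coords_ext _ (funext fun i => ?_)
  rw [coords_wed', (dtAlt hE i).map_eq_zero_of_eq _ (congrArg (rs E inf_le_left) hab) hne]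
  rfl

/-- The product as an alternating map. -/
def wedAlt (V : X.Opens) :
    (E.val.obj (op V)) [⋀^Fin n]→ₗ[Γ(X, V)] ((detLine hE).val.obj (op V)) where
  toFun s := wed hE (V := V) s
  map_update_add' v j a b := wed_update_add hE v j a b
  map_update_smul' v j c a := wed_update_smul hE v j c a
  map_eq_zero_of_eq' v _ _ hab hne := wed_eq_zero hE v hab hne

/-- The comparison map from the exterior power. -/
def cmp (V : X.Opens) :
    ↥(⋀[Γ(X, V)]^n (E.val.obj (op V))) →ₗ[Γ(X, V)] ((detLine hE).val.obj (op V)) :=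
  exteriorPower.alternatingMapLinearEquiv (wedAlt hE V)

theorem cmp_ιMulti (V : X.Opens) (s : Fin n → Γ(E, V)) :
    cmp hE V (exteriorPower.ιMulti Γ(X, V) n (M := E.val.obj (op V)) s) = wed hE s :=
  exteriorPower.alternatingMapLinearEquiv_apply_ιMulti (wedAlt hE V) s

theorem bijective_cmp_of_le (x : X) {W : X.Opens} (h : W ≤ (bU hE x).1) : Function.Bijective (cmp hE W) := by
  have h0 : Function.Bijective fun r : Fin n → Γ(X, W) => ∑ j, r j • (show E.val.obj (op W) from rs E h (bE hE x j)) :=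
    (bE_spec hE x).2 W h
  have h1 := bijective_smul_wedge (M := E.val.obj (op W)) (fun j => rs E h (bE hE x j)) h0
  have h2 : Function.Bijective fun a : Γ(X, W) =>
      cmp hE W (a • exteriorPower.ιMulti Γ(X, W) n (M := E.val.obj (op W)) (fun j => rs E h (bE hE x j))) := by
    refine (congrArg Function.Bijective (funext fun a => ?_)).mpr (isGen_gen (detCocycle hE) x W h)
    rw [map_smul]
    exact congrArg (a • ·) ((cmp_ιMulti hE W _).trans (wed_basis hE x h))
  exact ⟨fun p q hpq => by
    obtain ⟨a, rfl⟩ := h1.2 p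
    obtain ⟨b, rfl⟩ := h1.2 q
    exact congrArg (· • _) (h2.1 hpq), fun t => by
    obtain ⟨a, ha⟩ := h2.2 t
    exact ⟨_, ha⟩⟩

theorem isQCoh_of_rank (hE : FlatMod.IsFinLocFreeOfRank n E) : Coh.IsQCoh E :=
  Groth.L04.FinLocFreeHom.isQCoh_of_finLocFree fun x => by
    obtain ⟨U, hx, e⟩ := hE x
    exact ⟨U, n, hx, e⟩

theorem bijective_cmp (V : X.affineOpens) : Function.Bijective (cmp hE V.1) := by
  haveI := isQCoh_of_rank hE
  haveI : Coh.IsQCoh (detLine hE) :=
    Groth.L04.FinLocFreeHom.isQCoh_of_finLocFree (Groth.L20.ResDescent.isFinLocFree_of_isInvertible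
      (isInvertible_glueMod _ fun x => ⟨x, (bE_spec hE x).1⟩))
  let A := Γ(X, V.1)
  let G : Set A := {g | ∃ x, X.basicOpen g ≤ (bU hE x).1}
  have hG : Ideal.span G = ⊤ := by
    refine (IsAffineOpen.iSup_basicOpen_eq_self_iff V.2).1 (le_antisymm (iSup_le fun g => X.basicOpen_le _) fun y hy => ?_)
    obtain ⟨g, hgle, hyg⟩ := V.2.exists_basicOpen_le (V := (bU hE y).1) ⟨y, (bE_spec hE y).1⟩ hy
    exact TopologicalSpace.Opens.mem_iSup.2 ⟨⟨g, y, hgle⟩, hyg⟩
  have htop : ∀ I : Ideal A, (∀ g ∈ G, ∃ k : ℕ, g ^ k ∈ I) → I = ⊤ := fun I hI => by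
    by_contra hne
    obtain ⟨m, hm, hIm⟩ := I.exists_le_maximal hne
    refine hm.ne_top (top_le_iff.1 (hG ▸ Ideal.span_le.2 fun g hg => ?_))
    obtain ⟨k, hk⟩ := hI g hg
    exact hm.isPrime.mem_of_pow_mem k (hIm hk)
  -- the comparison commutes with restriction
  have key : ∀ g : A, ∃ Φ : ↥(⋀[A]^n (E.val.obj (op V.1))) →+ ↥(⋀[Γ(X, X.basicOpen g)]^n (E.val.obj (op (X.basicOpen g)))),
      (∀ z, rs (detLine hE) (X.basicOpen_le g) (cmp hE V.1 z) = cmp hE _ (Φ z)) ∧
      (∀ y, ∃ (z : _) (k : ℕ), ro (X.basicOpen_le g) (g ^ k) • y = Φ z) ∧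
      ∀ z, Φ z = 0 → ∃ k : ℕ, g ^ k • z = 0 := fun g => by
    letI : Algebra A Γ(X, X.basicOpen g) := (X.presheaf.map (homOfLE (X.basicOpen_le g)).op).hom.toAlgebra
    haveI : IsLocalization.Away g Γ(X, X.basicOpen g) := V.2.isLocalization_basicOpen g
    letI := Module.compHom Γ(E, X.basicOpen g) (X.presheaf.map (homOfLE (X.basicOpen_le g)).op).hom
    haveI : IsScalarTower A Γ(X, X.basicOpen g) Γ(E, X.basicOpen g) :=
      IsScalarTower.of_algebraMap_smul fun _ _ => rfl
    haveI := Groth.L20.ModStalk.isLocalizedModule_res (M := E) V.2 g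
    obtain ⟨Ψ, hΨ, hsurj, hker⟩ := Groth.L15.Ref.exterior_localized (A := A) (B := Γ(X, X.basicOpen g))
      (M := Γ(E, V.1)) (M' := Γ(E, X.basicOpen g)) (Submonoid.powers g)
      ({ toFun := fun s => rs E (X.basicOpen_le g) s
         map_add' := fun _ _ => map_add _ _ _
         map_smul' := fun b s => rs_smul E (X.basicOpen_le g) b s } : Γ(E, V.1) →ₗ[A] Γ(E, X.basicOpen g)) n
    refine ⟨Ψ.toAddMonoidHom, fun z => ?_, fun y => ?_, fun z hz => ?_⟩
    · have hy : z ∈ Submodule.span A (Set.range (exteriorPower.ιMulti A n (M := E.val.obj (op V.1)))) :=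
        (exteriorPower.ιMulti_span A n (E.val.obj (op V.1))).ge trivial
      induction hy using Submodule.span_induction with
      | mem z hz =>
        obtain ⟨v, rfl⟩ := hz
        refine (congrArg _ (cmp_ιMulti hE V.1 v)).trans ((rs_wed hE _ v).trans ?_)
        exact (cmp_ιMulti hE _ _).symm.trans (congrArg (cmp hE _) (hΨ v).symm)
      | zero =>
        refine (congrArg (rs (detLine hE) _) (map_zero (cmp hE V.1))).trans ?_
        rw [map_zero Ψ.toAddMonoidHom]
        exact (map_zero ((detLine hE).presheaf.map (homOfLE (X.basicOpen_le g)).op).hom).trans (map_zero _).symm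
      | add a b _ _ h1 h2 =>
        refine (congrArg (rs (detLine hE) _) (map_add (cmp hE V.1) a b)).trans ?_
        refine (map_add ((detLine hE).presheaf.map (homOfLE (X.basicOpen_le g)).op).hom _ _).trans ?_
        rw [map_add Ψ.toAddMonoidHom]
        exact (congrArg₂ (· + ·) h1 h2).trans (map_add _ _ _).symm
      | smul c a _ h1 =>
        refine (congrArg (rs (detLine hE) _) ((cmp hE V.1).map_smul c a)).trans ?_
        refine (rs_smul (detLine hE) (X.basicOpen_le g) c _).trans ?_
        show _ = cmp hE _ (Ψ (c • a))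
        rw [map_smul Ψ, ← algebraMap_smul Γ(X, X.basicOpen g) c (Ψ a)]
        exact (congrArg _ h1).trans (map_smul (cmp hE _) _ _).symm
    · obtain ⟨z, ⟨_, k, rfl⟩, hz⟩ := hsurj y
      exact ⟨z, k, hz⟩
    · obtain ⟨⟨_, k, rfl⟩, hk⟩ := hker z hz
      exact ⟨k, hk⟩
  constructor
  · refine (injective_iff_map_eq_zero (cmp hE V.1)).2 fun z hz => ?_
    let I : Ideal A := (Submodule.span A {z}).annihilator
    have hI : I = ⊤ := htop I fun g ⟨x, hgx⟩ => by
      obtain ⟨Φ, hΦ, -, hker⟩ := key g
      have h1 := hΦ z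
      rw [hz] at h1
      obtain ⟨k, hk⟩ := hker z ((bijective_cmp_of_le hE x hgx).1 ((h1.symm.trans
        (map_zero ((detLine hE).presheaf.map (homOfLE (X.basicOpen_le g)).op).hom)).trans (map_zero _).symm))
      exact ⟨k, (Submodule.mem_annihilator_span_singleton z (g ^ k)).2 hk⟩
    have := (Submodule.mem_annihilator_span_singleton z 1).1 (hI ▸ Submodule.mem_top : (1 : A) ∈ I)
    rwa [one_smul] at this
  · intro t
    let I : Ideal A := (LinearMap.range (cmp hE V.1)).comap (LinearMap.toSpanSingleton A _ t)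
    have hI : I = ⊤ := htop I fun g ⟨x, hgx⟩ => by
      obtain ⟨Φ, hΦ, hsurj, -⟩ := key g
      obtain ⟨y, hy⟩ := (bijective_cmp_of_le hE x hgx).2 (rs (detLine hE) (X.basicOpen_le g) t)
      obtain ⟨z, k, hz⟩ := hsurj y
      letI := Module.compHom Γ(detLine hE, X.basicOpen g) (X.presheaf.map (homOfLE (X.basicOpen_le g)).op).hom
      haveI := Groth.L20.ModStalk.isLocalizedModule_res (M := detLine hE) V.2 g
      have h1 : rs (detLine hE) (X.basicOpen_le g) ((show Γ(detLine hE, V.1) from cmp hE V.1 z) - g ^ k • (show Γ(detLine hE, V.1) from t)) = 0 := by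
        refine (map_sub ((detLine hE).presheaf.map (homOfLE (X.basicOpen_le g)).op).hom _ _).trans (sub_eq_zero.2 ?_)
        refine (hΦ z).trans ((congrArg (cmp hE _) hz.symm).trans ?_)
        rw [map_smul, hy]
        exact (rs_smul (detLine hE) (X.basicOpen_le g) (g ^ k) t).symm
      obtain ⟨⟨_, m, rfl⟩, hm⟩ := (IsLocalizedModule.eq_zero_iff (Submonoid.powers g)
        ({ toFun := fun s => rs (detLine hE) (X.basicOpen_le g) s
           map_add' := fun _ _ => map_add _ _ _
           map_smul' := fun b s => rs_smul (detLine hE) (X.basicOpen_le g) b s } :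
          Γ(detLine hE, V.1) →ₗ[A] Γ(detLine hE, X.basicOpen g))).1 h1
      refine ⟨m + k, g ^ m • z, ?_⟩
      refine ((cmp hE V.1).map_smul (g ^ m) z).trans ?_
      have hm' : g ^ m • (cmp hE V.1 z - g ^ k • t) = 0 := hm
      rw [smul_sub, sub_eq_zero, smul_smul, ← pow_add] at hm'
      exact hm'
    obtain ⟨z, hz⟩ : (1 : A) ∈ I := hI ▸ Submodule.mem_top
    exact ⟨z, hz.trans (one_smul A t)⟩

include hE in
/-- A locally free module of rank `n` has an `n`-th exterior power, which is invertible. -/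
theorem exists_isExtPow : ∃ L : X.Modules, ExtPow.IsExtPow n E L ∧ PicF.IsInvertible L := by
  refine ⟨detLine hE, ⟨fun U => (LinearEquiv.ofBijective _ (bijective_cmp hE U)).symm, fun U V h e => ?_⟩,
    isInvertible_glueMod _ fun x => ⟨x, (bE_spec hE x).1⟩⟩
  simp only [LinearEquiv.symm_symm, LinearEquiv.ofBijective_apply]
  refine (congrArg _ (cmp_ιMulti hE U.1 e)).trans ((rs_wed hE h e).trans ?_)
  exact (cmp_ιMulti hE V.1 _).symm

end Groth.L22.Adjunction
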