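import Groth.Agent.L22.Adjunction.Seq
import Groth.Agent.L22.Adjunction.DetLine
import Groth.Agent.L22.FLI.Iso
import Groth.Agent.L22.PDual.TwistExt
import Groth.Agent.L08.Cube.Inverse
import Groth.Agent.L15.Ref.ExtPow

/-!
Top forms of a smooth closed subscheme as an Ext sheaf.
-/

set_option autoImplicit false
set_option backward.isDefEq.respectTransparency false
set_option backward.isDefEq.respectTransparency.types false
set_option linter.style.haveILetI false
universe u

open CategoryTheory CategoryTheory.Limits AlgebraicGeometry TopologicalSpace Opposite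

noncomputable section

namespace Groth.L22.Adjunction

open Groth.L16.HomSh (homMod homModF tensorHomAdj)
open Groth.L00.Tensor (tensorLeftF tensorRightF tensorFlipIso)

/-- Homomorphisms out of an invertible module cancel a twist by it. -/
theorem nonempty_homMod_tensor {X : Scheme.{u}} {L : X.Modules} (hL : PicF.IsInvertible L) (N : X.Modules) :
    Nonempty (homMod L (CohB1.tensorMod L N) ≅ N) := by
  obtain ⟨L', -, ⟨e⟩⟩ := Groth.L08.Cube.exists_inverse hL
  haveI := Groth.L22.PDual.isEquivalence_tensorRightF e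
  haveI : (tensorLeftF L).IsEquivalence := Functor.isEquivalence_of_iso (tensorFlipIso L)
  haveI : IsIso ((tensorHomAdj L).unit.app N) := inferInstance
  exact ⟨(asIso ((tensorHomAdj L).unit.app N)).symm⟩

/-- Modules on an empty scheme vanish. -/
theorem isZero_of_isEmpty {X : Scheme.{u}} [IsEmpty X] (M : X.Modules) : IsZero M :=
  (IsZero.iff_id_eq_zero M).2 (Groth.L21.Mod.hom_ext_stalk fun x => isEmptyElim x)

variable {P X S : Scheme.{u}} [IsLocallyNoetherian P] (g : P ⟶ S) (i : X ⟶ P) [IsClosedImmersion i] (n r : ℕ)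
  [SmoothOfRelativeDimension n g] [SmoothOfRelativeDimension r (i ≫ g)] [QuasiSeparated g]

include g in
/-- Top forms of a smooth closed subscheme are the Ext sheaf of the top forms of the ambient. -/
theorem nonempty_push_topForms_iso_extSh {ΩP : P.Modules} (hΩP : ExtPow.IsExtPow n (Omega.sheaf g) ΩP)
    {ΩX : X.Modules} (hΩX : ExtPow.IsExtPow r (Omega.sheaf (i ≫ g)) ΩX)
    [ModSite.HasSheafHom (O := P.sheaf) ((Scheme.Modules.pushforward i).obj (Coh.structureModule X))]
    [HasInjectiveResolutions (ModSite.Mod P.sheaf)] :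
    Nonempty ((Scheme.Modules.pushforward i).obj ΩX ≅
      (ModSite.extSh (O := P.sheaf) ((Scheme.Modules.pushforward i).obj (Coh.structureModule X)) (n - r)).obj ΩP) := by
  haveI : Coh.IsQCoh ΩP := by
    obtain ⟨φ, hφ⟩ := hΩP
    exact Groth.L04.FinLocFreeHom.isQCoh_of_finLocFree (Groth.L20.ResDescent.isFinLocFree_of_isInvertible
      (Groth.L22.CurveDeg.Det.isInvertible_of_extPow φ hφ (Groth.L02.Canon.isFinLocFreeOfRank_omega (f := g) n)))
  obtain ⟨L, hL, hLi⟩ := exists_isExtPow (isFinLocFreeOfRank_conormal g i n r)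
  obtain ⟨e⟩ := Groth.L22.FLI.nonempty_extSh_iso_homMod (F := ΩP) (isRegularImmersionOfCodim g i n r) hL
  obtain ⟨e₁⟩ : Nonempty ((Scheme.Modules.pullback i).obj ΩP ≅ CohB1.tensorMod L ΩX) := by
    by_cases h : r ≤ n
    · exact nonempty_topForms_iso g i n r h hΩP hΩX hL
    · haveI : IsEmpty X := ⟨fun x => by
        obtain ⟨r', c, rs, -, -, -, -, hr⟩ := exists_chart_smooth g i n r x
        omega⟩
      exact ⟨(isZero_of_isEmpty _).iso (isZero_of_isEmpty _)⟩
  obtain ⟨e₂⟩ := nonempty_homMod_tensor hLi ΩX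
  exact ⟨(Scheme.Modules.pushforward i).mapIso (((homModF L).mapIso e₁ ≪≫ e₂).symm) ≪≫ e.symm⟩

end Groth.L22.Adjunction
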