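import Groth.Agent.L22.Adjunction.DetLine
import Groth.Agent.L16.ProjSpace.CoordSect
import Groth.Agent.L19.ProjBdl.Diff
import Groth.Agent.L19.OmegaSh.Universal
import Groth.Agent.L19.OmegaSh.DiagPoint
import Groth.Agent.L22.PicGlue.GensIso
import Groth.Agent.L22.Reg.Pn
import Groth.Agent.L19.AmpleAffineLocus

/-!
The canonical sheaf of projective space.
-/

set_option autoImplicit false
set_option backward.isDefEq.respectTransparency false
set_option backward.isDefEq.respectTransparency.types false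
set_option linter.style.haveILetI false
universe u

open CategoryTheory CategoryTheory.Limits AlgebraicGeometry TopologicalSpace Opposite

noncomputable section

namespace Groth.L22.Adjunction

open Groth.L18.Frame (rs ro rs_rs rs_self rs_smul ro_ro ro_self IsFrame)
open Groth.L22.CurveDeg.Det (IsBasisS wedge wedge_comb rs_wedge isFrame_wedge)
open Groth.L16.ProjSpace (Xd chart cratio chart_appLE_ratio opensRange_chart chart_toSpec)
open Groth.L19.OmegaSh (der_map der_mul resDer)
open Groth.L19.ProjBdl (IsBasisOn isBasisOn_tilde isBasisOn_of_iso isBasisOn_of_restrict)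

variable (n : ℕ) (R : Type u) [CommRing R]

/-- Projective space. -/
abbrev PS : Scheme.{u} := CohB1.ProjSpace n R

/-- The standard open. -/
abbrev DO (i : Fin (n + 1)) : (PS n R).Opens :=
  Proj.basicOpen (CohB1.polyGrading n R) (Xd n R i).1

/-- The ratio of two coordinates. -/
def rat (i j : Fin (n + 1)) : Γ(PS n R, DO n R i) :=
  Groth.L16.ProjTwist.ratio (CohB1.polyGrading n R) (Xd n R j) (Xd n R i)

theorem rat_trans {W : (PS n R).Opens} {i l : Fin (n + 1)} (hi : W ≤ DO n R i) (hl : W ≤ DO n R l)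
    (j : Fin (n + 1)) : ro hl (rat n R l j) = ro hi (rat n R i j) * ro hl (rat n R l i) := by
  let M : (PS n R).Modules := Twist.twist (CohB1.polyGrading n R) ((1 : ℕ) : ℤ)
  let x : Fin (n + 1) → Γ(M, ⊤) := Groth.L16.ProjSpace.xsec n R
  have key : ∀ (a b : Fin (n + 1)) {V : (PS n R).Opens} (ha : V ≤ DO n R a),
      rs M (le_top : V ≤ ⊤) (x b) = ro ha (rat n R a b) • rs M (le_top : V ≤ ⊤) (x a) := fun a b V ha => by
    have h := congrArg (rs M ha) (show rs M (le_top : DO n R a ≤ ⊤) (x b) =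
      rat n R a b • rs M (le_top : DO n R a ≤ ⊤) (x a) from Groth.L16.ProjSpace.rs_xsec_eq n R a b)
    rwa [rs_smul, rs_rs, rs_rs] at h
  have hb := ((Groth.L16.ProjSpace.isFrame_xsec n R l) W hl).1
  refine hb ?_
  show _ • rs M hl (rs M le_top (x l)) = _ • rs M hl (rs M le_top (x l))
  rw [rs_rs, ← key l j hl, key i j hi, key l i hl, smul_smul]

theorem rat_self (i : Fin (n + 1)) : rat n R i i = 1 := by
  let M : (PS n R).Modules := Twist.twist (CohB1.polyGrading n R) ((1 : ℕ) : ℤ)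
  refine ((Groth.L16.ProjSpace.isFrame_xsec n R i) (DO n R i) le_rfl).1 ?_
  show rat n R i i • rs M le_rfl (rs M le_top (Groth.L16.ProjSpace.xsec n R i)) = (1 : Γ(PS n R, DO n R i)) • _
  rw [rs_self, one_smul]
  exact (Groth.L16.ProjSpace.rs_xsec_eq n R i i).symm

variable [QuasiSeparated (CohB1.ProjSpace.toSpec n R)]

/-- The differentials of projective space. -/
abbrev OP : (PS n R).Modules := Omega.sheaf (CohB1.ProjSpace.toSpec n R)

/-- The universal derivation. -/
abbrev dP : OmegaSh.Der (CohB1.ProjSpace.toSpec n R) (OP n R) := OmegaSh.dOmega (CohB1.ProjSpace.toSpec n R)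

/-- The differentials of the coordinates. -/
def dr (i : Fin (n + 1)) (k : Fin n) : Γ(OP n R, DO n R i) := (dP n R).app (DO n R i) (rat n R i (i.succAbove k))

theorem isBasisS_dr (i : Fin (n + 1)) : IsBasisS (OP n R) (dr n R i) := by
  let σ : Fin n ≃ {j : Fin (n + 1) // j ≠ i} := finSuccAboveEquiv i
  let A := MvPolynomial (Groth.L16.ProjSpace.ChartVar n i) R
  let j := chart n R i
  obtain ⟨e, he⟩ := Groth.L19.OmegaSh.exists_chart (Groth.L19.OmegaSh.isUniversal_dOmega
    (f := CohB1.ProjSpace.toSpec n R)) (R := R) (A := A) j (𝟙 _)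
    (by rw [Category.comp_id, MvPolynomial.algebraMap_eq]; exact (chart_toSpec n R i).symm)
  let bas := (KaehlerDifferential.mvPolynomialBasis R (Groth.L16.ProjSpace.ChartVar n i)).reindex σ.symm
  have hbas : ∀ k, bas k = KaehlerDifferential.D R A (MvPolynomial.X (σ k)) := fun k => by
    rw [Module.Basis.reindex_apply, Equiv.symm_symm]
    exact KaehlerDifferential.mvPolynomialBasis_apply _ _ _
  have h1 := isBasisOn_of_iso e.symm
    (isBasisOn_tilde (A := CommRingCat.of A) (ModuleCat.of A Ω[A⁄R]) bas)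
  have h2 : ∀ k, (resDer j (dP n R)).app ⊤ ((Scheme.ΓSpecIso (CommRingCat.of A)).inv (MvPolynomial.X (σ k))) =
      e.inv.app ⊤ (tilde.toOpen (R := CommRingCat.of A) (ModuleCat.of A Ω[A⁄R]) ⊤ (bas k)) := fun k => by
    rw [hbas]
    exact (congr($(e.hom_inv_id).app ⊤ _)).symm.trans (congrArg (e.inv.app ⊤) (he _))
  have h3 : IsBasisOn (OP n R) (j ''ᵁ ⊤) fun k => (dP n R).app (j ''ᵁ ⊤)
      ((j.appIso ⊤).inv ((Scheme.ΓSpecIso (CommRingCat.of A)).inv (MvPolynomial.X (σ k)))) :=
    isBasisOn_of_restrict j (funext h2 ▸ h1)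
  have hr : j.opensRange = DO n R i := opensRange_chart n R i
  have hle : j ''ᵁ ⊤ ≤ DO n R i := ((Scheme.Hom.image_top_eq_opensRange j).trans hr).le
  have hW : ⊤ ≤ j ⁻¹ᵁ DO n R i := fun z _ => hr.le ⟨z, rfl⟩
  have h4 : ∀ k, (dP n R).app (j ''ᵁ ⊤)
      ((j.appIso ⊤).inv ((Scheme.ΓSpecIso (CommRingCat.of A)).inv (MvPolynomial.X (σ k)))) =
      rs (OP n R) hle (dr n R i k) := fun k => by
    have hc : cratio n R i (i.succAbove k) = MvPolynomial.X (σ k) := by
      rw [cratio, dif_neg (Fin.succAbove_ne i k)]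
      rfl
    rw [← hc, dr, ← der_map]
    refine congrArg ((dP n R).app _) ?_
    rw [← chart_appLE_ratio n R i (i.succAbove k) hW]
    exact congr($(Scheme.Hom.appLE_appIso_inv j hW) (rat n R i (i.succAbove k)))
  rw [funext h4] at h3
  have hge : DO n R i ≤ j ''ᵁ ⊤ := ((Scheme.Hom.image_top_eq_opensRange j).trans hr).ge
  have h5 := h3.mono hge
  simp only [rs_rs, rs_self] at h5
  exact h5

theorem det_aug {A : Type u} [CommRing A] (M : Matrix (Fin (n + 1)) (Fin (n + 1)) A) (q : Fin (n + 1))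
    (h0 : ∀ b : Fin n, M q b.castSucc = 0) (h1 : M q (Fin.last n) = 1) :
    M.det = (-1) ^ ((q : ℕ) + n) * (M.submatrix q.succAbove Fin.castSucc).det := by
  rw [Matrix.det_succ_row M q, Fin.sum_univ_castSucc,
    Finset.sum_eq_zero (fun b _ => by simp [h0 b]), zero_add, h1, mul_one, Fin.succAbove_last, Fin.val_last]

theorem dt_dr (i l : Fin (n + 1)) {W : (PS n R).Opens} (hi : W ≤ DO n R i) (hl : W ≤ DO n R l) :
    (-1) ^ (l : ℕ) * dt (isBasisS_dr n R i) hi (fun k => rs (OP n R) hl (dr n R l k)) =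
      ro hl (rat n R l i) ^ (n + 1) * (-1) ^ (i : ℕ) := by
  let C := Γ(PS n R, W)
  let F := cfL (isBasisS_dr n R i) hi
  let t : C := ro hl (rat n R l i)
  let t' : C := ro hi (rat n R i l)
  let Di : Fin (n + 1) → Γ(OP n R, W) := fun j => (dP n R).app W (ro hi (rat n R i j))
  let Dl : Fin (n + 1) → Γ(OP n R, W) := fun j => (dP n R).app W (ro hl (rat n R l j))
  have hti : ro hi (rat n R i i) = (1 : C) := by rw [rat_self]; exact map_one _
  have htl : ro hl (rat n R l l) = (1 : C) := by rw [rat_self]; exact map_one _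
  have htt : t * t' = 1 := by
    rw [mul_comm]
    exact (rat_trans n R hi hl l).symm.trans htl
  have d1 : (dP n R).app W (1 : C) = 0 := by
    have h := der_mul (dP n R) (U := W) (1 : C) 1
    rw [mul_one, one_smul] at h
    exact left_eq_add.1 h
  let Ai : Matrix (Fin (n + 1)) (Fin (n + 1)) C := fun j => Fin.snoc (F (Di j)) (ro hi (rat n R i j))
  let Al : Matrix (Fin (n + 1)) (Fin (n + 1)) C := fun j => Fin.snoc (F (Dl j)) (ro hl (rat n R l j))
  let U : Matrix (Fin (n + 1)) (Fin (n + 1)) C := fun a => Fin.lastCases (motive := fun _ => Fin (n + 1) → C)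
    (Fin.snoc (t' • F (Dl i)) 1) (fun a b => if a.castSucc = b then 1 else 0) a
  have hU : U.det = 1 := by
    rw [Matrix.det_of_lowerTriangular U fun a b hab => ?_, Fin.prod_univ_castSucc]
    · simp [U]
    · induction a using Fin.lastCases with
      | last => exact absurd hab (Fin.le_last b).not_gt
      | cast a =>
        have : a.castSucc ≠ b := ne_of_lt hab
        simp [U, this]
  have hAU : Al = t • (Ai * U) := by
    funext j b
    rw [Matrix.smul_apply, Matrix.mul_apply, Fin.sum_univ_castSucc, smul_eq_mul]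
    induction b using Fin.lastCases with
    | last =>
      simp only [Al, Ai, U, Fin.snoc_last, Fin.lastCases_last, Fin.lastCases_castSucc, Fin.snoc_castSucc,
        Fin.castSucc_ne_last, if_false, mul_zero, Finset.sum_const_zero, zero_add, mul_one]
      rw [rat_trans n R hi hl j, mul_comm]
    | cast b =>
      simp only [Al, Ai, U, Fin.snoc_last, Fin.lastCases_last, Fin.lastCases_castSucc, Fin.snoc_castSucc,
        Fin.castSucc_inj, mul_ite, mul_one, mul_zero, Finset.sum_ite_eq', Finset.mem_univ, if_true,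
        Pi.smul_apply, smul_eq_mul]
      have hD : Dl j = ro hi (rat n R i j) • Dl i + t • Di j :=
        (congrArg ((dP n R).app W) (rat_trans n R hi hl j)).trans (der_mul (dP n R) _ _)
      have := congrFun (congrArg F hD) b
      rw [map_add, map_smul, map_smul] at this
      rw [this]
      simp only [Pi.add_apply, Pi.smul_apply, smul_eq_mul]
      linear_combination (-(ro hi (rat n R i j)) * F (Dl i) b) * htt
  have hAi : Ai.det = (-1) ^ ((i : ℕ) + n) := by
    rw [det_aug n Ai i (fun b => ?_) (by simp only [Ai, Fin.snoc_last]; exact hti)]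
    · have : Ai.submatrix i.succAbove Fin.castSucc = 1 := by
        refine Matrix.ext fun a b => ?_
        simp only [Matrix.submatrix_apply, Ai, Fin.snoc_castSucc, Di]
        rw [der_map]
        exact congrFun (cf_unique (isBasisS_dr n R i) hi
          (r := fun b => (1 : Matrix (Fin n) (Fin n) C) a b) (by simp [Matrix.one_apply, dr])) b
      rw [this, Matrix.det_one, mul_one]
    · simp only [Ai, Fin.snoc_castSucc, Di]
      rw [hti, d1, map_zero]
      rfl
  have hAl : Al.det = (-1) ^ ((l : ℕ) + n) * dt (isBasisS_dr n R i) hi (fun k => rs (OP n R) hl (dr n R l k)) := by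
    rw [det_aug n Al l (fun b => ?_) (by simp only [Al, Fin.snoc_last]; exact htl)]
    · refine congrArg (_ * Matrix.det ·) (Matrix.ext fun a b => ?_)
      simp only [Matrix.submatrix_apply, Al, Fin.snoc_castSucc, Dl, dr]
      rw [der_map]
      rfl
    · simp only [Al, Fin.snoc_castSucc, Dl]
      rw [htl, d1, map_zero]
      rfl
  have h := congrArg Matrix.det hAU
  rw [Matrix.det_smul, Matrix.det_mul, hU, mul_one, hAi, hAl, Fintype.card_fin, pow_add, pow_add] at h
  have hn : ((-1 : C) ^ n) * (-1) ^ n = 1 := by rw [← mul_pow]; simp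
  linear_combination ((-1 : C) ^ n) * h +
    (t ^ (n + 1) * (-1) ^ (i : ℕ) - (-1) ^ (l : ℕ) * dt (isBasisS_dr n R i) hi (fun k => rs (OP n R) hl (dr n R l k))) * hn

omit [QuasiSeparated (CohB1.ProjSpace.toSpec n R)] in
theorem isAffineOpen_DO (i : Fin (n + 1)) : IsAffineOpen (DO n R i) :=
  Groth.L16.ProjSpace.isAffineOpen_basicOpen_X n R i

omit [QuasiSeparated (CohB1.ProjSpace.toSpec n R)] in
theorem isAffineOpen_inter (i l : Fin (n + 1)) : IsAffineOpen (DO n R i ⊓ DO n R l) := by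
  rw [show DO n R i ⊓ DO n R l =
    (Proj.basicOpen (CohB1.polyGrading n R) ((Xd n R i).1 * (Xd n R l).1) : (PS n R).Opens) from
    (Proj.basicOpen_mul _ _ _).symm]
  exact Proj.isAffineOpen_basicOpen (CohB1.polyGrading n R) _
    (SetLike.mul_mem_graded (Xd n R i).2 (Xd n R l).2) (by norm_num)

section Top

variable {L : (PS n R).Modules}
  (φ : ∀ U : (PS n R).affineOpens,
    (L.val.obj (op U.1)) ≃ₗ[Γ(PS n R, U.1)] ↥(⋀[Γ(PS n R, U.1)]^n ((OP n R).val.obj (op U.1))))

/-- The frame of the top forms on a standard open, with its sign. -/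
def wP (i : Fin (n + 1)) : Γ(L, DO n R i) :=
  ((-1 : Γ(PS n R, DO n R i)) ^ (i : ℕ)) • wedge φ ⟨DO n R i, isAffineOpen_DO n R i⟩ (dr n R i)

variable (hφ : ∀ (U V : (PS n R).affineOpens) (h : V.1 ≤ U.1) (e : Fin n → (OP n R).val.obj (op U.1)),
      L.val.map (homOfLE h).op ((φ U).symm (exteriorPower.ιMulti _ n e)) =
        (φ V).symm (exteriorPower.ιMulti _ n (fun j => (OP n R).val.map (homOfLE h).op (e j))))

include hφ

theorem isFrame_wP (i : Fin (n + 1)) : IsFrame L (DO n R i) (wP n R φ i) :=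
  (isFrame_wedge φ hφ ⟨DO n R i, isAffineOpen_DO n R i⟩ _ (isBasisS_dr n R i)).smul_unit (isUnit_neg_one.pow (i : ℕ))

theorem rs_wP (i l : Fin (n + 1)) :
    rs L (inf_le_right : DO n R i ⊓ DO n R l ≤ DO n R l) (wP n R φ l) =
      ro (inf_le_right : DO n R i ⊓ DO n R l ≤ DO n R l) (rat n R l i) ^ (n + 1) •
        rs L (inf_le_left : DO n R i ⊓ DO n R l ≤ DO n R i) (wP n R φ i) := by
  have hsign : ∀ (m : Fin (n + 1)) {W : (PS n R).Opens} (h : W ≤ DO n R m),
      ro h ((-1 : Γ(PS n R, DO n R m)) ^ (m : ℕ)) = (-1) ^ (m : ℕ) := fun m W h => by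
    simp [ro]
  rw [wP, wP, rs_smul, rs_smul, hsign, hsign,
    rs_wedge φ hφ _ ⟨DO n R i ⊓ DO n R l, isAffineOpen_inter n R i l⟩ inf_le_right,
    rs_wedge φ hφ _ ⟨DO n R i ⊓ DO n R l, isAffineOpen_inter n R i l⟩ inf_le_left]
  have hcomb : (fun k => rs (OP n R) (inf_le_right : DO n R i ⊓ DO n R l ≤ DO n R l) (dr n R l k)) =
      fun k => ∑ m, cf (isBasisS_dr n R i) (inf_le_left : DO n R i ⊓ DO n R l ≤ DO n R i)
        (rs (OP n R) inf_le_right (dr n R l k)) m • rs (OP n R) inf_le_left (dr n R i m) :=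
    funext fun k => (cf_spec _ _ _).symm
  rw [hcomb, wedge_comb φ ⟨DO n R i ⊓ DO n R l, isAffineOpen_inter n R i l⟩, smul_smul, smul_smul]
  exact congrArg (· • _) (dt_dr n R i l inf_le_left inf_le_right)

omit hφ in
/-- The frame of `O(n + 1)` on a standard open. -/
def fP (i : Fin (n + 1)) : Γ(Twist.twistProjSpace n R ((n + 1 : ℕ) : ℤ), DO n R i) :=
  Groth.L16.ProjTwist.posFrame (CohB1.polyGrading n R) (n + 1) (Xd n R i)

omit hφ [QuasiSeparated (CohB1.ProjSpace.toSpec n R)] in
theorem rs_fP (i l : Fin (n + 1)) :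
    rs (Twist.twistProjSpace n R ((n + 1 : ℕ) : ℤ)) (inf_le_right : DO n R i ⊓ DO n R l ≤ DO n R l) (fP n R l) =
      ro (inf_le_left : DO n R i ⊓ DO n R l ≤ DO n R i) (rat n R i l) ^ (n + 1) •
        rs (Twist.twistProjSpace n R ((n + 1 : ℕ) : ℤ)) (inf_le_left : DO n R i ⊓ DO n R l ≤ DO n R i) (fP n R i) := by
  have h := congrArg (rs (Twist.twistProjSpace n R ((n + 1 : ℕ) : ℤ))
      (le_inf inf_le_right inf_le_left : DO n R i ⊓ DO n R l ≤ DO n R l ⊓ DO n R i))
    (Groth.L16.ProjTwist.posFrame_rel (CohB1.polyGrading n R) (n + 1) (Xd n R l) (Xd n R i))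
  erw [rs_smul, rs_rs, rs_rs] at h
  refine h.trans (congrArg (· • _) ?_)
  exact (map_pow (ConcreteCategory.hom ((PS n R).presheaf.map (homOfLE _).op)) _ _).trans
    (congrArg (· ^ (n + 1)) (ro_ro _ _ _))

theorem rs_tens (i l : Fin (n + 1)) :
    rs (CohB1.tensorMod L (Twist.twistProjSpace n R ((n + 1 : ℕ) : ℤ)))
        (inf_le_right : DO n R i ⊓ DO n R l ≤ DO n R l)
        (Groth.L18.GenLoc.tens L _ (DO n R l) (wP n R φ l) (fP n R l)) =
      rs (CohB1.tensorMod L (Twist.twistProjSpace n R ((n + 1 : ℕ) : ℤ)))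
        (inf_le_left : DO n R i ⊓ DO n R l ≤ DO n R i)
        (Groth.L18.GenLoc.tens L _ (DO n R i) (wP n R φ i) (fP n R i)) := by
  rw [Groth.L18.GenLoc.tens_rs, Groth.L18.GenLoc.tens_rs, rs_wP n R φ hφ i l, rs_fP n R i l,
    Groth.L18.GenLoc.tens_smul_left, Groth.L18.GenLoc.tens_smul_right, smul_smul]
  refine (congrArg (· • _) ?_).trans (one_smul _ _)
  rw [← mul_pow, mul_comm, ← rat_trans n R inf_le_left inf_le_right l, rat_self]
  exact (congrArg (· ^ (n + 1)) (map_one _)).trans (one_pow _)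

theorem sameTrans_tens : Groth.L22.PicGlue.SameTrans (fun i : ULift.{u} (Fin (n + 1)) => DO n R i.down)
    (CohB1.tensorMod L (Twist.twistProjSpace n R ((n + 1 : ℕ) : ℤ))) (Coh.structureModule (PS n R))
    (fun i => Groth.L18.GenLoc.tens L _ (DO n R i.down) (wP n R φ i.down) (fP n R i.down))
    (fun i => (show Γ(Coh.structureModule (PS n R), DO n R i.down) from (1 : Γ(PS n R, DO n R i.down)))) := by
  rintro ⟨i⟩ ⟨l⟩ W hi hl c hc
  have h1 := congrArg (rs (CohB1.tensorMod L (Twist.twistProjSpace n R ((n + 1 : ℕ) : ℤ)))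
    (le_inf hi hl : W ≤ DO n R i ⊓ DO n R l)) (rs_tens n R φ hφ i l)
  rw [rs_rs, rs_rs] at h1
  have hc1 : c = 1 :=
    ((Groth.L18.GenLoc.isFrame_tens (isFrame_wP n R φ hφ i)
      (Groth.L16.ProjTwist.isFrame_posFrame (CohB1.polyGrading n R) (n + 1) (Xd n R i))) W hi).1
      (hc.trans (h1.trans (one_smul _ _).symm))
  rw [hc1, one_smul]
  exact (map_one (ConcreteCategory.hom ((PS n R).presheaf.map (homOfLE hi).op))).trans
    (map_one (ConcreteCategory.hom ((PS n R).presheaf.map (homOfLE hl).op))).symm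

end Top

/-- The canonical sheaf of projective space is `O(-n-1)`. -/
theorem nonempty_topForms_projSpace {L : (PS n R).Modules} (hL : ExtPow.IsExtPow n (OP n R) L) :
    Nonempty (L ≅ Twist.twistProjSpace n R (-((n : ℤ) + 1))) := by
  obtain ⟨φ, hφ⟩ := hL
  obtain ⟨e⟩ := Groth.L22.PicGlue.nonempty_iso_of_gens _
    (fun i : ULift.{u} (Fin (n + 1)) => Groth.L18.GenLoc.isFrame_tens (isFrame_wP n R φ hφ i.down)
      (Groth.L16.ProjTwist.isFrame_posFrame (CohB1.polyGrading n R) (n + 1) (Xd n R i.down)))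
    (fun i => Groth.L19.AmpleAffine.isFrame_one _) (fun x => by
      obtain ⟨i, hi⟩ := Groth.L16.ProjSpace.exists_mem_basicOpen_X n R x
      exact ⟨⟨i⟩, hi⟩) (sameTrans_tens n R φ hφ)
  obtain ⟨e1⟩ := Groth.L22.Reg.nonempty_O_add (n := n) (R := R)
    (show ((n + 1 : ℕ) : ℤ) + -((n : ℤ) + 1) = 0 by push_cast; ring)
  obtain ⟨e0⟩ := Groth.L22.Reg.nonempty_O_zero n R
  exact ⟨(Groth.L00.Tensor.tensorUnitRight L).symm ≪≫ Groth.L00.Tensor.tensorIso (Iso.refl L) (e1 ≪≫ e0).symm ≪≫
    (Groth.L00.Tensor.tensorAssoc L _ _).symm ≪≫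
    Groth.L00.Tensor.tensorIso e (Iso.refl _) ≪≫ Groth.L00.Tensor.tensorUnitLeft _⟩

end Groth.L22.Adjunction
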