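import Groth.Agent.L22.CurveDeg.Det.ExtPow
import Groth.Agent.L22.PicGlue.GensIso
import Groth.Agent.L03.SurfAdj.DetIso

/-!
The determinant of an extension of locally free modules, pulled back along a morphism.
-/

set_option autoImplicit false
set_option backward.isDefEq.respectTransparency false
set_option linter.style.haveILetI false
universe u

open CategoryTheory CategoryTheory.Limits AlgebraicGeometry TopologicalSpace Opposite

noncomputable section

namespace Groth.L22.Adjunction

open Groth.L18.Frame (rs ro rs_rs rs_self rs_smul ro_ro IsFrame pull)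
open Groth.L20.ModStalk (germ_smul germ_rs)
open Groth.L21.RR (st st_germ bijective_germ_frame)
open Groth.L18.GenLoc (tens tens_rs tens_smul_left tens_smul_right isFrame_tens)
open Groth.L22.CurveDeg.Det
open Groth.L03.SurfAdj (exact_st exists_lift)

variable {Z X : Scheme.{u}}

/-- The determinant rule for products of sections, at a stalk. -/
theorem det_stalk {n : ℕ} {E L : Z.Modules}
    (φ : ∀ U : Z.affineOpens, (L.val.obj (op U.1)) ≃ₗ[Γ(Z, U.1)] ↥(⋀[Γ(Z, U.1)]^n (E.val.obj (op U.1))))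
    (hφ : ∀ (U V : Z.affineOpens) (h : V.1 ≤ U.1) (e : Fin n → E.val.obj (op U.1)),
      L.val.map (homOfLE h).op ((φ U).symm (exteriorPower.ιMulti _ n e)) =
        (φ V).symm (exteriorPower.ιMulti _ n (fun j => E.val.map (homOfLE h).op (e j))))
    (U V : Z.affineOpens) (s : Fin n → Γ(E, U.1))
    (e : Fin n → Γ(E, V.1)) (he : IsBasisS E e) (z : Z) (hzU : z ∈ U.1) (hzV : z ∈ V.1)
    (S : Matrix (Fin n) (Fin n) (Z.presheaf.stalk z))
    (hS : ∀ i, E.presheaf.germ U.1 z hzU (s i) = ∑ j, S i j • E.presheaf.germ V.1 z hzV (e j)) :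
    L.presheaf.germ U.1 z hzU (wedge φ U s) = S.det • L.presheaf.germ V.1 z hzV (wedge φ V e) := by
  obtain ⟨_, ⟨W, hWa, rfl⟩, hzW, hWle⟩ := Z.isBasis_affineOpens.exists_subset_of_mem_open
    (show z ∈ U.1 ⊓ V.1 from ⟨hzU, hzV⟩) (U.1 ⊓ V.1).2
  let W' : Z.affineOpens := ⟨W, hWa⟩
  have hWU : W ≤ U.1 := fun y hy => (hWle hy).1
  have hWV : W ≤ V.1 := fun y hy => (hWle hy).2
  choose T hT using fun i => (he W hWV).2 (rs E hWU (s i))
  have hST : S = Matrix.of fun i j => Z.presheaf.germ W z hzW (T i j) := by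
    refine funext fun i => (he.stalk z hzV).1 ?_
    refine (hS i).symm.trans ?_
    rw [← germ_rs (M := E) hWU hzW (s i), ← hT i, map_sum]
    refine Finset.sum_congr rfl fun j _ => ?_
    rw [germ_smul, germ_rs]
    rfl
  have hw : rs L hWU (wedge φ U s) = (Matrix.of T).det • rs L hWV (wedge φ V e) := by
    rw [rs_wedge φ hφ U W' hWU, rs_wedge φ hφ V W' hWV, ← wedge_comb φ W']
    exact congrArg _ (funext fun i => (hT i).symm)
  rw [← germ_rs (M := L) hWU hzW (wedge φ U s), hw, germ_smul, germ_rs, hST, RingHom.map_det]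
  rfl

/-- Finitely many lifts on one affine neighbourhood. -/
theorem exists_lifts {S : ShortComplex Z.Modules} (hS : S.ShortExact) {q : ℕ} {O : Z.Opens}
    (b : Fin q → Γ(S.X₃, O)) {z : Z} (hz : z ∈ O) :
    ∃ (V : Z.affineOpens) (h : V.1 ≤ O) (σ : Fin q → Γ(S.X₂, V.1)),
      z ∈ V.1 ∧ ∀ l, S.g.app V.1 (σ l) = rs S.X₃ h (b l) := by
  choose W hW σ hzW hσ using fun l => exists_lift hS (b l) hz
  have hz' : z ∈ O ⊓ Finset.univ.inf W := by
    refine ⟨hz, ?_⟩
    have : ∀ T : Finset (Fin q), z ∈ T.inf W := fun T => by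
      induction T using Finset.induction_on with
      | empty => simp
      | insert b s _ ih => rw [Finset.inf_insert]; exact ⟨hzW b, ih⟩
    exact this _
  obtain ⟨_, ⟨V, hV, rfl⟩, hzV, hVle⟩ := Z.isBasis_affineOpens.exists_subset_of_mem_open hz'
    (O ⊓ Finset.univ.inf W).2
  have hle : V ≤ O ⊓ Finset.univ.inf W := hVle
  have hl : ∀ l, V ≤ W l := fun l => hle.trans (inf_le_right.trans (Finset.inf_le (Finset.mem_univ l)))
  refine ⟨⟨V, hV⟩, hle.trans inf_le_left, fun l => rs S.X₂ (hl l) (σ l), hzV, fun l => ?_⟩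
  have h := congrArg (rs S.X₃ (hl l)) (hσ l)
  rw [rs_rs] at h
  refine Eq.trans ?_ h
  exact congr($((Scheme.Modules.Hom.mapPresheaf S.g).naturality (homOfLE (hl l)).op) (σ l))

/-- The determinant of an extension. -/
theorem nonempty_det_iso (f : Z ⟶ X) {p q : ℕ} {E W : X.Modules} (hE : FlatMod.IsFinLocFreeOfRank (p + q) E)
    (hW : ExtPow.IsExtPow (p + q) E W) {A B LA LB : Z.Modules} (hA : FlatMod.IsFinLocFreeOfRank p A)
    (hLA : ExtPow.IsExtPow p A LA) (hB : FlatMod.IsFinLocFreeOfRank q B) (hLB : ExtPow.IsExtPow q B LB)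
    (α : A ⟶ (Scheme.Modules.pullback f).obj E) (β : (Scheme.Modules.pullback f).obj E ⟶ B) (w : α ≫ β = 0)
    (hse : (ShortComplex.mk α β w).ShortExact) :
    Nonempty ((Scheme.Modules.pullback f).obj W ≅ CohB1.tensorMod LA LB) := by
  classical
  obtain ⟨φ, hφ⟩ := hW
  obtain ⟨φA, hφA⟩ := hLA
  obtain ⟨φB, hφB⟩ := hLB
  let F := (Scheme.Modules.pullback f).obj E
  let W' := (Scheme.Modules.pullback f).obj W
  have hloc : ∀ z : Z, ∃ (U : X.affineOpens) (e : Fin (p + q) → Γ(E, U.1)) (V : Z.affineOpens)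
      (hVU : V.1 ≤ f ⁻¹ᵁ U.1) (a : Fin p → Γ(A, V.1)) (b : Fin q → Γ(B, V.1)) (σ : Fin q → Γ(F, V.1)),
      z ∈ V.1 ∧ IsBasisS E e ∧ IsBasisS A a ∧ IsBasisS B b ∧ ∀ l, β.app V.1 (σ l) = b l := by
    intro z
    obtain ⟨U, e, hU, -, he⟩ := exists_affine_basis hE (f z) ⊤ trivial
    obtain ⟨VA, a, hzA, hAle, ha⟩ := exists_affine_basis hA z (f ⁻¹ᵁ U.1) hU
    obtain ⟨VB, b, hzB, hBle, hb⟩ := exists_affine_basis hB z VA.1 hzA
    obtain ⟨V, hV, σ, hzV, hσ⟩ := exists_lifts hse b hzB
    exact ⟨U, e, V, hV.trans (hBle.trans hAle), fun j => rs A (hV.trans hBle) (a j), fun j => rs B hV (b j), σ,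
      hzV, he, ha.mono _, hb.mono _, hσ⟩
  choose U e V hVU a b σ hzV he ha hb hσ using hloc
  let pb := fun i (l : Fin (p + q)) => rs F (hVU i) (pull f E (U i).1 (e i l))
  have hp : ∀ i (y : Z) (hy : y ∈ (V i).1), Function.Bijective
      fun r : Fin (p + q) → Z.presheaf.stalk y => ∑ l, r l • F.presheaf.germ (V i).1 y hy (pb i l) := fun i y hy => by
    simp only [pb, germ_rs]
    exact isBasisS_pullback f (he i) y (hVU i hy)
  have hpS : ∀ i, Groth.L17.LocBases.IsBasis (O := Z.sheaf) F (W := (V i).1) (pb i) := fun i =>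
    Groth.L17.PullBasis.isBasis_of_stalk F (pb i) (hp i)
  let row : ∀ i, Fin (p + q) → Γ(F, (V i).1) := fun i k =>
    Sum.elim (fun j => α.app (V i).1 (a i j)) (σ i) (finSumFinEquiv.symm k)
  have hcoef : ∀ i (k : Fin (p + q)), ∃ r : Fin (p + q) → Γ(Z, (V i).1), ∑ l, r l • pb i l = row i k := fun i k => by
    obtain ⟨r, hr⟩ := ((hpS i) (V i).1 (𝟙 _)).2 (row i k)
    exact ⟨r, (Finset.sum_congr rfl fun l _ => congrArg (fun x => (show Γ(Z, (V i).1) from r l) • x) (rs_self F le_rfl (pb i l)).symm).trans hr⟩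
  choose M hM using hcoef
  have hMg : ∀ i k (y : Z) (hy : y ∈ (V i).1), F.presheaf.germ (V i).1 y hy (row i k) =
      ∑ l, Z.presheaf.germ (V i).1 y hy (M i k l) • F.presheaf.germ (V i).1 y hy (pb i l) := fun i k y hy => by
    rw [← hM i k, map_sum]
    exact Finset.sum_congr rfl fun l _ => germ_smul (M := F) hy (M i k l) (pb i l)
  have hrow : ∀ i (y : Z) (hy : y ∈ (V i).1) (m : F.presheaf.stalk y),
      ∃ r : Fin (p + q) → Z.presheaf.stalk y, m = ∑ k, r k • F.presheaf.germ (V i).1 y hy (row i k) := fun i y hy m => by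
    obtain ⟨t, ht⟩ := ((hb i).stalk y hy).2 (st β y m)
    have h0 : st β y (m - ∑ l, t l • F.presheaf.germ (V i).1 y hy (σ i l)) = 0 := by
      rw [map_sub, map_sum]
      refine sub_eq_zero.2 (ht.symm.trans (Finset.sum_congr rfl fun l _ => ?_))
      rw [map_smul, st_germ, hσ i]
    obtain ⟨x, hx⟩ := ((exact_st hse y).1 _).1 h0
    obtain ⟨s, hs⟩ := ((ha i).stalk y hy).2 x
    have hx' : st α y x = m - ∑ l, t l • F.presheaf.germ (V i).1 y hy (σ i l) := hx
    simp only at hs
    rw [← hs, map_sum] at hx'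
    simp only [map_smul, st_germ] at hx'
    refine ⟨fun k => Sum.elim s t (finSumFinEquiv.symm k), ?_⟩
    rw [← Equiv.sum_comp finSumFinEquiv, Fintype.sum_sum_type]
    simp only [row, Equiv.symm_apply_apply, Sum.elim_inl, Sum.elim_inr]
    rw [hx', sub_add_cancel]
  let Mg := fun i (y : Z) (hy : y ∈ (V i).1) => Matrix.of fun k l => Z.presheaf.germ (V i).1 y hy (M i k l)
  have hdet : ∀ i, IsUnit (Matrix.of (M i)).det := fun i => by
    refine RingedSpace.isUnit_of_isUnit_germ Z.toLocallyRingedSpace.toRingedSpace (V i).1 _ fun y hy => ?_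
    choose P hP using fun l => hrow i y hy (F.presheaf.germ (V i).1 y hy (pb i l))
    have h1 : Matrix.of P * Mg i y hy = 1 := by
      refine Matrix.ext fun l m => congrFun ((hp i y hy).1 ?_ :
        (fun m => (Matrix.of P * Mg i y hy) l m) = fun m => (1 : Matrix (Fin (p + q)) (Fin (p + q)) _) l m) m
      show ∑ m, (Matrix.of P * Mg i y hy) l m • _ = ∑ m, (1 : Matrix (Fin (p + q)) (Fin (p + q)) _) l m • _
      rw [← Groth.L03.SurfAdj.sum_comp]
      simp only [Matrix.one_apply, ite_smul, one_smul, zero_smul, Finset.sum_ite_eq, Finset.mem_univ, if_true]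
      rw [hP l]
      exact Finset.sum_congr rfl fun k _ => by rw [hMg i k y hy]; rfl
    have h2 := congrArg Matrix.det h1
    rw [Matrix.det_mul, Matrix.det_one] at h2
    have h3 : IsUnit (Mg i y hy).det := IsUnit.of_mul_eq_one _ ((mul_comm _ _).trans h2)
    have h4 : (Z.presheaf.germ (V i).1 y hy).hom (Matrix.of (M i)).det = (Mg i y hy).det :=
      RingHom.map_det _ _
    exact h4.symm ▸ h3
  let ω := fun i => (Matrix.of (M i)).det • rs W' (hVU i) (pull f W (U i).1 (wedge φ (U i) (e i)))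
  have hω : ∀ i, IsFrame W' (V i).1 (ω i) := fun i =>
    ((((isFrame_wedge φ hφ (U i) (e i) (he i)).pullback f).mono (hVU i)).smul_unit (hdet i))
  let wa := fun i => wedge φA (V i) (a i)
  let wb := fun i => wedge φB (V i) (b i)
  have hwa : ∀ i, IsFrame LA (V i).1 (wa i) := fun i => isFrame_wedge φA hφA (V i) (a i) (ha i)
  have hwb : ∀ i, IsFrame LB (V i).1 (wb i) := fun i => isFrame_wedge φB hφB (V i) (b i) (hb i)
  have hT : ∀ i, IsFrame (CohB1.tensorMod LA LB) (V i).1 (tens LA LB (V i).1 (wa i) (wb i)) := fun i =>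
    isFrame_tens (hwa i) (hwb i)
  refine Groth.L22.PicGlue.nonempty_iso_of_gens (fun z => (V z).1) (e := ω)
    (e' := fun i => tens LA LB (V i).1 (wa i) (wb i))
    hω hT (fun z => ⟨z, hzV z⟩) fun i j O hi hj c hc => ?_
  obtain ⟨u, hu⟩ := (hwa i).exists_coeff hi (rs LA hj (wa j))
  obtain ⟨v, hv⟩ := (hwb i).exists_coeff hi (rs LB hj (wb j))
  have hcuv : c = u * v := by
    refine TopCat.Presheaf.section_ext Z.sheaf O c (u * v) fun y hy => ?_
    show Z.presheaf.germ O y hy c = Z.presheaf.germ O y hy (u * v)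
    have hyi : y ∈ (V i).1 := hi hy
    have hyj : y ∈ (V j).1 := hj hy
    choose SA hSA using fun k => ((ha i).stalk y hyi).2 (A.presheaf.germ (V j).1 y hyj (a j k))
    choose SB hSB using fun k => ((hb i).stalk y hyi).2 (B.presheaf.germ (V j).1 y hyj (b j k))
    have hua : Z.presheaf.germ O y hy u = (Matrix.of SA).det := by
      refine (bijective_germ_frame (hwa i) hyi).1 ?_
      show _ • _ = _ • _
      rw [← det_stalk φA hφA (V j) (V i) (a j) (a i) (ha i) y hyj hyi (Matrix.of SA) fun k => (hSA k).symm]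
      exact ((congrArg (_ • ·) (germ_rs (M := LA) hi hy (wa i))).symm.trans (germ_smul (M := LA) hy u _).symm).trans
        ((congrArg _ hu).trans (germ_rs (M := LA) hj hy (wa j)))
    have hvb : Z.presheaf.germ O y hy v = (Matrix.of SB).det := by
      refine (bijective_germ_frame (hwb i) hyi).1 ?_
      show _ • _ = _ • _
      rw [← det_stalk φB hφB (V j) (V i) (b j) (b i) (hb i) y hyj hyi (Matrix.of SB) fun k => (hSB k).symm]
      exact ((congrArg (_ • ·) (germ_rs (M := LB) hi hy (wb i))).symm.trans (germ_smul (M := LB) hy v _).symm).trans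
        ((congrArg _ hv).trans (germ_rs (M := LB) hj hy (wb j)))
    have hR : ∀ l, ∃ r : Fin p → Z.presheaf.stalk y, F.presheaf.germ (V j).1 y hyj (σ j l) =
        ∑ m, r m • F.presheaf.germ (V i).1 y hyi (α.app (V i).1 (a i m)) +
          ∑ m, SB l m • F.presheaf.germ (V i).1 y hyi (σ i m) := fun l => by
      have h0 : st β y (F.presheaf.germ (V j).1 y hyj (σ j l) - ∑ m, SB l m • F.presheaf.germ (V i).1 y hyi (σ i m)) = 0 := by
        rw [map_sub, map_sum, st_germ, hσ j]
        refine sub_eq_zero.2 ((hSB l).symm.trans (Finset.sum_congr rfl fun m _ => ?_))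
        rw [map_smul, st_germ, hσ i]
      obtain ⟨x, hx⟩ := ((exact_st hse y).1 _).1 h0
      obtain ⟨r, hr⟩ := ((ha i).stalk y hyi).2 x
      have hx' : st α y x = F.presheaf.germ (V j).1 y hyj (σ j l) - ∑ m, SB l m • F.presheaf.germ (V i).1 y hyi (σ i m) := hx
      simp only at hr
      rw [← hr, map_sum] at hx'
      simp only [map_smul, st_germ] at hx'
      exact ⟨r, by rw [hx', sub_add_cancel]⟩
    choose R hR using hR
    have hαj : ∀ k, F.presheaf.germ (V j).1 y hyj (α.app (V j).1 (a j k)) =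
        ∑ m, SA k m • F.presheaf.germ (V i).1 y hyi (α.app (V i).1 (a i m)) := fun k => by
      rw [← st_germ α hyj, ← hSA k, map_sum]
      refine Finset.sum_congr rfl fun m _ => ?_
      rw [map_smul, st_germ]
    let L : Matrix (Fin (p + q)) (Fin (p + q)) (Z.presheaf.stalk y) :=
      (Matrix.fromBlocks (Matrix.of SA) 0 (Matrix.of R) (Matrix.of SB)).submatrix finSumFinEquiv.symm finSumFinEquiv.symm
    have hL : ∀ k, F.presheaf.germ (V j).1 y hyj (row j k) =
        ∑ l, L k l • F.presheaf.germ (V i).1 y hyi (row i l) := by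
      intro k
      obtain ⟨k, rfl⟩ := finSumFinEquiv.surjective k
      rw [← Equiv.sum_comp finSumFinEquiv, Fintype.sum_sum_type]
      simp only [L, row, Matrix.submatrix_apply, Equiv.symm_apply_apply, Sum.elim_inl, Sum.elim_inr]
      rcases k with k | k
      · simp only [Sum.elim_inl, Matrix.fromBlocks_apply₁₁, Matrix.fromBlocks_apply₁₂, Matrix.zero_apply, zero_smul,
          Finset.sum_const_zero, add_zero, Matrix.of_apply]
        exact hαj k
      · simp only [Sum.elim_inr, Matrix.fromBlocks_apply₂₁, Matrix.fromBlocks_apply₂₂, Matrix.of_apply]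
        exact hR k
    choose P hP using fun l => (hp j y hyj).2 (F.presheaf.germ (V i).1 y hyi (pb i l))
    have hMj : Mg j y hyj = L * (Mg i y hyi * Matrix.of P) := by
      refine Matrix.ext fun k m => congrFun ((hp j y hyj).1 ?_ :
        (fun m => Mg j y hyj k m) = fun m => (L * (Mg i y hyi * Matrix.of P)) k m) m
      show ∑ m, Mg j y hyj k m • _ = ∑ m, (L * (Mg i y hyi * Matrix.of P)) k m • _
      rw [← Groth.L03.SurfAdj.sum_comp]
      refine ((hMg j k y hyj).symm.trans (hL k)).trans (Finset.sum_congr rfl fun l _ => congrArg _ ?_)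
      rw [hMg i l y hyi, ← Groth.L03.SurfAdj.sum_comp]
      exact Finset.sum_congr rfl fun q _ => congrArg _ (hP q).symm
    have hwedge : W'.presheaf.germ (f ⁻¹ᵁ (U i).1) y (hVU i hyi) (pull f W (U i).1 (wedge φ (U i) (e i))) =
        (Matrix.of P).det • W'.presheaf.germ (f ⁻¹ᵁ (U j).1) y (hVU j hyj) (pull f W (U j).1 (wedge φ (U j) (e j))) := by
      refine det_pullback φ hφ f (U i) (U j) (e i) (e j) (he j) y (hVU i hyi) (hVU j hyj) (Matrix.of P) fun l => ?_
      have h := (hP l).symm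
      simp only [pb, germ_rs] at h
      exact h
    have hdg : ∀ i' (h : y ∈ (V i').1), W'.presheaf.germ (V i').1 y h (ω i') =
        (Mg i' y h).det • W'.presheaf.germ (f ⁻¹ᵁ (U i').1) y (hVU i' h)
          (pull f W (U i').1 (wedge φ (U i') (e i'))) := fun i' h => by
      refine (germ_smul (M := W') h _ _).trans ?_
      rw [germ_rs]
      exact congrArg (· • _) (RingHom.map_det (Z.presheaf.germ (V i').1 y h).hom (Matrix.of (M i')))
    have hrel : W'.presheaf.germ (V j).1 y hyj (ω j) =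
        ((Matrix.of SA).det * (Matrix.of SB).det) • W'.presheaf.germ (V i).1 y hyi (ω i) := by
      rw [hdg j, hdg i, hwedge, smul_smul, smul_smul, hMj]
      congr 1
      simp only [Matrix.det_mul, L, Matrix.det_submatrix_equiv_self, Matrix.det_fromBlocks_zero₁₂]
      ring
    have hcg := congrArg (W'.presheaf.germ O y hy) hc
    erw [germ_smul] at hcg
    rw [map_mul, hua, hvb]
    refine (bijective_germ_frame (hω i) hyi).1 ?_
    show Z.presheaf.germ O y hy c • _ = _ • _
    rw [← hrel]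
    refine Eq.trans ?_ (hcg.trans (germ_rs (M := W') hj hy _))
    exact congrArg (_ • ·) (germ_rs (M := W') hi hy _).symm
  show c • rs (CohB1.tensorMod LA LB) hi (tens LA LB (V i).1 (wa i) (wb i)) =
    rs (CohB1.tensorMod LA LB) hj (tens LA LB (V j).1 (wa j) (wb j))
  rw [tens_rs, tens_rs, ← hu, ← hv, tens_smul_left, tens_smul_right, smul_smul, hcuv]

end Groth.L22.Adjunction
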