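import Groth.Agent.L22.Adjunction.Reg
import Groth.Agent.L22.Adjunction.Det
import Groth.Agent.L12.FinCov.Basis
import Groth.Agent.L02.Canon.Basic
import Groth.Agent.L19.OmegaSh.ConormalDiff
import Groth.Agent.L19.OmegaSh.ConormalMono
import Groth.Agent.L19.OmegaSh.GroupScheme
import Groth.Agent.L19.OmegaSh.DiffCompat
import Groth.Agent.L12.StabLimit
import Groth.Agent.S1488

/-!
The conormal sequence of a closed subscheme smooth over the base in a scheme smooth over the base, its
ranks, and the adjunction formula.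
-/

set_option autoImplicit false
set_option backward.isDefEq.respectTransparency false
set_option linter.style.haveILetI false
universe u

open CategoryTheory CategoryTheory.Limits AlgebraicGeometry TopologicalSpace Opposite

noncomputable section

namespace Groth.L22.Adjunction

open Groth.L21.RR (st st_germ)
open Groth.L22.CurveDeg.Det
open Groth.L03.SurfAdj (exact_st)

variable {P X S : Scheme.{u}}

/-- The conormal sequence is short exact. -/
theorem exists_seq (g : P ⟶ S) [QuasiSeparated g] (i : X ⟶ P) [IsClosedImmersion i] [Smooth (i ≫ g)] :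
    ∃ (φ : Omega.conormal i ⟶ (Scheme.Modules.pullback i).obj (Omega.sheaf g))
      (c : (Scheme.Modules.pullback i).obj (Omega.sheaf g) ⟶ Omega.sheaf (i ≫ g)) (w : φ ≫ c = 0),
      (ShortComplex.mk φ c w).ShortExact := by
  have hX := Groth.L19.OmegaSh.isUniversal_dOmega (f := g)
  have hY := Groth.L19.OmegaSh.isUniversal_dOmega (f := i ≫ g)
  obtain ⟨φ, hφ⟩ := Groth.L19.OmegaSh.exists_conormalDiff i (OmegaSh.dOmega g)
  obtain ⟨c, hc, -⟩ := Groth.L19.OmegaSh.existsUnique_diffCompat i (𝟙 _) (Category.comp_id (i ≫ g)) hX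
    (OmegaSh.dOmega (i ≫ g))
  obtain ⟨w, hex, hepi⟩ := Groth.L19.OmegaSh.exact_conormal_diff i hX hY φ hφ c hc
  have hmono : Mono φ := Groth.L19.OmegaSh.mono_conormalDiff_of_formallySmooth
    ((Groth.Agent.S1488.result (i ≫ g)).mp inferInstance).2 hX hφ
  exact ⟨φ, c, w, { exact := hex, mono_f := hmono, epi_g := hepi }⟩

/-- Ranks add along short exact sequences. -/
theorem rank_add {Z : Scheme.{u}} {A F B : Z.Modules} {α : A ⟶ F} {β : F ⟶ B} {w : α ≫ β = 0}
    (hse : (ShortComplex.mk α β w).ShortExact) {a n m : ℕ} {V : Z.Opens} {e : Fin a → Γ(A, V)}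
    (he : IsBasisS A e) {z : Z} (hz : z ∈ V) (hF : FlatMod.IsFinLocFreeOfRank n F)
    (hB : FlatMod.IsFinLocFreeOfRank m B) : a + m = n := by
  let R := Z.presheaf.stalk z
  obtain ⟨UF, eF, hzF, -, heF⟩ := exists_affine_basis hF z ⊤ trivial
  obtain ⟨UB, eB, hzB, -, heB⟩ := exists_affine_basis hB z ⊤ trivial
  have hbA := he.stalk z hz
  have hbF := heF.stalk z hzF
  have hbB := heB.stalk z hzB
  let eqv : ∀ {M : Type u} [AddCommGroup M] [Module R M] {k : ℕ} (v : Fin k → M),
      (Function.Bijective fun r : Fin k → R => ∑ j, r j • v j) → ((Fin k → R) ≃ₗ[R] M) :=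
    fun v hv => LinearEquiv.ofBijective (Fintype.linearCombination R v) hv
  let EA := eqv _ hbA
  let EF := eqv _ hbF
  let EB := eqv _ hbB
  obtain ⟨hex, hsurj⟩ := exact_st hse z
  have hinj : Function.Injective (st α z) := by
    have h := (Groth.L21.Mod.shortExact_iff_stalk _).1 hse z
    haveI := h.mono_f
    exact (AddCommGrpCat.mono_iff_injective _).1 h.mono_f
  let f' : (Fin a → R) →ₗ[R] (Fin n → R) := EF.symm.toLinearMap ∘ₗ (st α z) ∘ₗ EA.toLinearMap
  let g' : (Fin n → R) →ₗ[R] (Fin m → R) := EB.symm.toLinearMap ∘ₗ (st β z) ∘ₗ EF.toLinearMap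
  have hf' : Function.Injective f' := EF.symm.injective.comp (hinj.comp EA.injective)
  have hg' : Function.Surjective g' := EB.symm.surjective.comp (hsurj.comp EF.surjective)
  have hfg : Function.Exact f' g' := fun v => by
    constructor
    · intro hv
      obtain ⟨x, hx⟩ := (hex (EF v)).1 (EB.symm.injective (hv.trans (map_zero _).symm))
      exact ⟨EA.symm x, EF.injective (by simp [f']; exact hx)⟩
    · rintro ⟨x, rfl⟩
      simp [f', g']
      exact (hex _).2 ⟨_, rfl⟩
  obtain ⟨s, hs⟩ := Module.projective_lifting_property g' LinearMap.id hg'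
  have hb : Function.Bijective (f'.coprod s) := by
    constructor
    · rw [injective_iff_map_eq_zero]
      rintro ⟨x, y⟩ hxy
      rw [LinearMap.coprod_apply] at hxy
      have h1 := congrArg g' hxy
      rw [map_add, map_zero, (hfg _).2 ⟨x, rfl⟩, zero_add] at h1
      have hy : y = 0 := (LinearMap.congr_fun hs y).symm.trans h1
      rw [hy, map_zero, add_zero] at hxy
      exact Prod.ext (hf' (hxy.trans (map_zero _).symm)) hy
    · intro v
      obtain ⟨x, hx⟩ := (hfg (v - s (g' v))).1 (by
        rw [map_sub]; exact sub_eq_zero.2 (LinearMap.congr_fun hs (g' v)).symm)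
      exact ⟨(x, g' v), by rw [LinearMap.coprod_apply, hx, sub_add_cancel]⟩
  have h := (LinearEquiv.ofBijective _ hb).finrank_eq
  rwa [Module.finrank_prod, Module.finrank_fin_fun, Module.finrank_fin_fun, Module.finrank_fin_fun] at h

variable (g : P ⟶ S) (i : X ⟶ P) [IsClosedImmersion i] (n m : ℕ) [SmoothOfRelativeDimension n g]
  [SmoothOfRelativeDimension m (i ≫ g)] [QuasiSeparated g]

include g n m in
/-- A chart of the immersion around any point. -/
theorem exists_chart_smooth (x : X) :
    ∃ (r : ℕ) (c : Groth.L22.FLI.Chart i r) (rs : List Γ(P, c.U.1)), i x ∈ c.U.1 ∧ rs.length = r ∧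
      RegImm.Kind.regular.Seq Γ(P, c.U.1) rs ∧ RingHom.ker (i.app c.U.1).hom = Ideal.ofList rs ∧ r + m = n := by
  haveI : Smooth g := SmoothOfRelativeDimension.smooth n g
  haveI : Smooth (i ≫ g) := SmoothOfRelativeDimension.smooth m (i ≫ g)
  obtain ⟨U, rs, hxU, hseq, hker⟩ := exists_regular_affine g i x
  obtain ⟨φ, c', w, hse⟩ := exists_seq g i
  let f : ℕ → Γ(P, U.1) := fun j => rs.getD j 0
  have hI : ∀ p, p ≤ rs.length → Groth.L22.FLI.Ip f p = Ideal.ofList (rs.take p) := by
    intro p hp
    refine congrArg Ideal.span (Set.ext fun a => ?_)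
    simp only [Set.mem_image, Set.mem_Iio, Set.mem_ofPred_eq, List.mem_iff_getElem, List.length_take, f]
    constructor
    · rintro ⟨j, hj, rfl⟩
      refine ⟨j, by omega, ?_⟩
      rw [List.getElem_take, List.getD_eq_getElem _ _ (by omega)]
    · rintro ⟨j, hj, rfl⟩
      refine ⟨j, by omega, ?_⟩
      rw [List.getElem_take, List.getD_eq_getElem _ _ (by omega)]
  have hw : RingTheory.Sequence.IsWeaklyRegular Γ(P, U.1) rs := hseq.toIsWeaklyRegular
  let c : Groth.L22.FLI.Chart i rs.length :=
    ⟨U, f, fun p hp a ha => by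
      have h := hw.regular_mod_prev p hp
      have hfp : f p = rs[p] := List.getD_eq_getElem _ _ hp
      rw [hI p hp.le] at ha ⊢
      rw [hfp] at ha
      have e : (Ideal.ofList (rs.take p) • ⊤ : Submodule Γ(P, U.1) Γ(P, U.1)) = Ideal.ofList (rs.take p) := by
        rw [smul_eq_mul, Ideal.mul_top]
      have h2 := h (show rs[p] • (Submodule.Quotient.mk a : Γ(P, U.1) ⧸ _) = rs[p] • 0 by
        rw [smul_zero, ← Submodule.Quotient.mk_smul, Submodule.Quotient.mk_eq_zero, e]
        exact ha)
      rwa [Submodule.Quotient.mk_eq_zero, e] at h2,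
      by rw [hI _ le_rfl, List.take_length]; exact hker.symm⟩
  refine ⟨rs.length, c, rs, hxU, rfl, hseq, hker, ?_⟩
  exact rank_add hse c.isBasisS_cl (z := x) hxU
    (Groth.L12.StabLimit.isFinLocFreeOfRank_pullback i (Groth.L02.Canon.isFinLocFreeOfRank_omega (f := g) n))
    (Groth.L02.Canon.isFinLocFreeOfRank_omega (f := i ≫ g) m)

include g n m in
/-- The immersion is regular of codimension the difference of the relative dimensions. -/
theorem isRegularImmersionOfCodim :
    RegImm.IsRegularImmersionOfCodim RegImm.Kind.regular (n - m) i := by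
  refine ⟨inferInstance, fun x => ?_⟩
  obtain ⟨r, c, rs, hx, hlen, hseq, hker, hr⟩ := exists_chart_smooth g i n m x
  exact ⟨c.U, hx, inferInstance, rs, by omega, hseq, hker⟩

include g n m in
theorem isFinLocFreeOfRank_conormal : FlatMod.IsFinLocFreeOfRank (n - m) (Omega.conormal i) := by
  refine Groth.L12.FinCov.isFinLocFreeOfRank_of_bases fun x => ?_
  obtain ⟨r, c, rs, hx, -, -, -, hr⟩ := exists_chart_smooth g i n m x
  obtain rfl : r = n - m := by omega
  exact ⟨i ⁻¹ᵁ c.U.1, c.cl, hx, c.isBasisS_cl⟩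

include g in
/-- The adjunction formula. -/
theorem nonempty_topForms_iso (hmn : m ≤ n) {ωP : P.Modules} (hωP : ExtPow.IsExtPow n (Omega.sheaf g) ωP)
    {ωX : X.Modules} (hωX : ExtPow.IsExtPow m (Omega.sheaf (i ≫ g)) ωX)
    {L : X.Modules} (hL : ExtPow.IsExtPow (n - m) (Omega.conormal i) L) :
    Nonempty ((Scheme.Modules.pullback i).obj ωP ≅ CohB1.tensorMod L ωX) := by
  haveI : Smooth (i ≫ g) := SmoothOfRelativeDimension.smooth m (i ≫ g)
  obtain ⟨φ, c, w, hse⟩ := exists_seq g i
  have hn : n - m + m = n := Nat.sub_add_cancel hmn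
  exact nonempty_det_iso i (hn.symm ▸ Groth.L02.Canon.isFinLocFreeOfRank_omega (f := g) n) (hn.symm ▸ hωP)
    (isFinLocFreeOfRank_conormal g i n m) hL (Groth.L02.Canon.isFinLocFreeOfRank_omega (f := i ≫ g) m) hωX φ c w hse

end Groth.L22.Adjunction
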