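import Groth.Agent.L22.Adjunction.SmoothClosed
import Groth.Agent.L22.ExtSh.DualCM
import Groth.Agent.L22.ExtSh.Codim
import Groth.Agent.L22.PDual.ExtSheafHom
import Groth.Agent.L04.CMLoc
import Groth.Agent.L23.LocalDimEtale
import Groth.Agent.S2768
import Groth.Agent.S2501
import Groth.Agent.L08.Cube.FibreFun
import Groth.Agent.L16.SecComp.Smooth
import Groth.Agent.L16.Existence.Twist

/-!
Serre duality for smooth projective schemes, with the top forms as dualizing sheaf.
-/

set_option autoImplicit false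
set_option backward.isDefEq.respectTransparency false
set_option linter.style.haveILetI false
universe u

open CategoryTheory CategoryTheory.Limits AlgebraicGeometry TopologicalSpace Opposite

noncomputable section

namespace Groth.L22.Adjunction

variable (k : Type u) [Field k] (n : ℕ) (X : Scheme.{u}) [X.Over (Spec (CommRingCat.of k))]
  [SmoothOfRelativeDimension n (X ↘ Spec (CommRingCat.of k))]

include k in
/-- The local dimension of a smooth scheme. -/
theorem localDim_eq (x : X) : FlatMor.localDim X x = (n : WithBot ℕ∞) := by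
  let f := X ↘ Spec (CommRingCat.of k)
  have h := Groth.Agent.S2768.result n f x
  rw [Groth.L23.fibreDimAt_eq_preimage] at h
  haveI : Subsingleton ↥(Spec (CommRingCat.of k)) := inferInstanceAs (Subsingleton (PrimeSpectrum k))
  haveI := Groth.L23.quasiSober_preimage_singleton f (f x)
  rw [Groth.L23.localDim_homeomorph ((Homeomorph.setCongr
    (Set.eq_univ_of_forall fun y => show y ∈ f ⁻¹' {f x} from Subsingleton.elim (f y) (f x))).trans
    (Homeomorph.Set.univ X))] at h
  exact h

include k in
/-- The dimension of a smooth scheme. -/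
theorem topologicalKrullDim_eq_relDim [Nonempty X] : topologicalKrullDim X = (n : WithBot ℕ∞) := by
  refine le_antisymm (topologicalKrullDim_le_relDim (X ↘ Spec (CommRingCat.of k)) n) ?_
  let x : X := Classical.arbitrary X
  rw [← localDim_eq k n X x]
  exact iInf_le_of_le ⟨⊤, trivial⟩ (topologicalKrullDim_subspace_le _ _)

include k in
/-- The closed points of a smooth scheme are regular of dimension `n`. -/
theorem cm_closed_stalk (x : X) (hx : IsClosed ({x} : Set ↥X)) :
    LocCoh.IsCohenMacaulayLocalRing (X.presheaf.stalk x) ∧ ringKrullDim (X.presheaf.stalk x) = n := by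
  let f := X ↘ Spec (CommRingCat.of k)
  haveI : SmoothOfRelativeDimension n f := ‹_›
  haveI : Smooth f := SmoothOfRelativeDimension.smooth n f
  haveI : IsRegularLocalRing (X.presheaf.stalk x) := Groth.L21.Smooth.regular_stalk f x
  refine ⟨Groth.L04.isCohenMacaulayLocalRing_of_regular _, ?_⟩
  obtain ⟨a, b, ha, hb, hloc⟩ := Groth.L22.SchemeDim.exists_localDim k X x
  obtain ⟨m, hm, htr⟩ := Groth.L22.SchemeDim.exists_dim_closure_eq_trdeg k X x
  obtain rfl : a = m := by exact_mod_cast ha.symm.trans htr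
  have ha0 : a = 0 := by
    rw [hx.closure_eq] at hm
    have h0 := hm.symm.trans_le (topologicalKrullDim_zero_of_discreteTopology ({x} : Set ↥X))
    exact Nat.le_zero.1 (by exact_mod_cast h0)
  have h1 := (localDim_eq k n X x).symm.trans hloc
  have : n = a + b := by exact_mod_cast h1
  rw [hb, show b = n by omega]

variable {r : ℕ} (ι : X ⟶ CohB1.ProjSpace r k) [IsClosedImmersion ι]
  (hι : ι ≫ CohB1.ProjSpace.toSpec r k = X ↘ Spec (CommRingCat.of k))

omit [SmoothOfRelativeDimension n (X ↘ Spec (CommRingCat.of k))] [IsClosedImmersion ι] in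
include hι in
theorem isProper_of_closed [IsClosedImmersion ι] : IsProper (X ↘ Spec (CommRingCat.of k)) := by
  haveI : IsProper (CohB1.ProjSpace.toSpec r k) := Groth.L22.PDual.proper r k
  exact hι ▸ inferInstance

include hι in
/-- Duality in every degree. -/
theorem finite_ext_and_finrank [Nonempty X] {L : X.Modules}
    (hL : ExtPow.IsExtPow n (Omega.sheaf (X ↘ Spec (CommRingCat.of k))) L) [HasExt.{u} X.Modules]
    {F : X.Modules} (hF : Coh.IsCoh F) {i : ℕ} (hi : i ≤ n) :
    Module.Finite k (Abelian.Ext F L i) ∧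
      Module.finrank k (Abelian.Ext F L i) = Module.finrank k (Coh.HH X F (n - i)) := by
  haveI := isProper_of_closed k X ι hι
  haveI := Groth.L21.RR.isNoetherian_of_proper (X := X) k
  obtain ⟨t, ht⟩ := exists_trace_smooth k r n X ι hι L hL
  have hLc : Coh.IsCoh L := by
    obtain ⟨φ, hφ⟩ := hL
    exact Groth.L16.NegPow.isCoh_of_isFinLocFree (Groth.L20.ResDescent.isFinLocFree_of_isInvertible
      (Groth.L22.CurveDeg.Det.isInvertible_of_extPow φ hφ
        (Groth.L02.Canon.isFinLocFreeOfRank_omega (f := X ↘ Spec (CommRingCat.of k)) n)))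
  obtain ⟨h1, h2⟩ := Groth.L22.DualCM.dualAt ht ι (topologicalKrullDim_eq_relDim k n X)
    (cm_closed_stalk k n X) hLc i F hF
  exact ⟨h1, by rw [h2, if_pos hi, Groth.L22.DualCM.hd_def]⟩

include hι in
/-- Serre duality. -/
theorem nonempty_ext_dual [Nonempty X] {L : X.Modules}
    (hL : ExtPow.IsExtPow n (Omega.sheaf (X ↘ Spec (CommRingCat.of k))) L) [HasExt.{u} X.Modules]
    {F : X.Modules} (hF : Coh.IsCoh F) {i : ℕ} (hi : i ≤ n) :
    Nonempty (Abelian.Ext F L i ≃ₗ[k] Module.Dual k (Coh.HH X F (n - i))) := by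
  obtain ⟨h1, h2⟩ := finite_ext_and_finrank k n X ι hι hL hF hi
  haveI := isProper_of_closed k X ι hι
  haveI := Groth.L21.RR.isNoetherian_of_proper (X := X) k
  haveI := Groth.L16.ProperFinite.finite_HH k hF (n - i)
  exact ⟨LinearEquiv.ofFinrankEq _ _ (by rw [h2, Subspace.dual_finrank_eq])⟩

include hι in
/-- Serre duality for finite locally free sheaves. -/
theorem nonempty_dual_sheafHom [Nonempty X] {L : X.Modules}
    (hL : ExtPow.IsExtPow n (Omega.sheaf (X ↘ Spec (CommRingCat.of k))) L)
    (F : X.Modules) (hF : FlatMod.IsFinLocFree F) [DCoh.HasSheafHom F] {p : ℕ} (hp : p ≤ n) :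
    Nonempty (Module.Dual k (Coh.HH X F p) ≃ₗ[k] Coh.HH X ((DCoh.sheafHom F).obj L) (n - p)) := by
  haveI := isProper_of_closed k X ι hι
  haveI := Groth.L21.RR.isNoetherian_of_proper (X := X) k
  haveI := Groth.L00.Tensor.grothendieckAbelian_modules X
  haveI : HasExt.{u} X.Modules := inferInstance
  obtain ⟨e1⟩ := nonempty_ext_dual k n X ι hι hL (Groth.L16.NegPow.isCoh_of_isFinLocFree hF) (Nat.sub_le n p)
  rw [Nat.sub_sub_self hp] at e1
  obtain ⟨e2⟩ := Groth.L22.PDual.nonempty_ext_linearEquiv (k := k) F hF (n - p) L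
  exact ⟨e1.symm.trans e2⟩

include hι in
/-- The top cohomology of the top forms of a connected smooth projective scheme is a line. -/
theorem finrank_top [IsAlgClosed k] [ConnectedSpace X] {L : X.Modules}
    (hL : ExtPow.IsExtPow n (Omega.sheaf (X ↘ Spec (CommRingCat.of k))) L) :
    Module.finrank k (Coh.HH X L n) = 1 := by
  haveI := isProper_of_closed k X ι hι
  haveI := Groth.L21.RR.isNoetherian_of_proper (X := X) k
  haveI : Nonempty X := inferInstance
  let O := Coh.structureModule X
  let e0 : (DCoh.tensorBi (X := X)).obj O ≅ 𝟭 X.Modules :=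
    (Groth.L22.PDual.biIso O).symm ≪≫ Groth.L16.Existence.unitLeftIso
  haveI : DCoh.HasSheafHom O := ⟨_, ⟨(Adjunction.id (C := X.Modules)).ofNatIsoLeft e0.symm⟩⟩
  let eR : DCoh.sheafHom O ≅ 𝟭 X.Modules :=
    (DCoh.sheafHomAdj O).rightAdjointUniq ((Adjunction.id (C := X.Modules)).ofNatIsoLeft e0.symm)
  have hO : FlatMod.IsFinLocFree O :=
    Groth.L20.ResDescent.isFinLocFree_of_isInvertible (Groth.L18.Ample.isInvertible_structureModule X)
  obtain ⟨e1⟩ := nonempty_dual_sheafHom k n X ι hι hL O hO (Nat.zero_le n)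
  let φ := Groth.L16.CohLinear.hmap (eR.app L).hom (n - 0)
  let ψ := Groth.L16.CohLinear.hmap (eR.app L).inv (n - 0)
  have h1 : ∀ x, ψ (φ x) = x := fun x => by
    rw [← Groth.L16.CohLinear.hmap_comp, Iso.hom_inv_id, Groth.L16.CohLinear.hmap_id]
  have h2 : ∀ x, φ (ψ x) = x := fun x => by
    rw [← Groth.L16.CohLinear.hmap_comp, Iso.inv_hom_id, Groth.L16.CohLinear.hmap_id]
  let e2 : Coh.HH X ((DCoh.sheafHom O).obj L) (n - 0) ≃ₗ[k] Coh.HH X L (n - 0) :=
    { toFun := φ, invFun := ψ, left_inv := h1, right_inv := h2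
      map_add' := map_add φ
      map_smul' := fun c x => φ.map_smul (Coh.toGlobal (X ↘ Spec (CommRingCat.of k)) c) x }
  have h3 := (e1.trans e2).finrank_eq
  rw [Subspace.dual_finrank_eq, Nat.sub_zero] at h3
  rw [← h3]
  haveI : Smooth (X ↘ Spec (CommRingCat.of k)) := SmoothOfRelativeDimension.smooth n _
  haveI := Groth.L16.SecComp.geometricallyReduced_of_smooth (X ↘ Spec (CommRingCat.of k))
  haveI := Groth.Agent.S2501.result (X ↘ Spec (CommRingCat.of k))
  exact Groth.L08.Cube.finrank_HH_zero_structure (X ↘ Spec (CommRingCat.of k))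
    (Groth.L08.Cube.bijective_toGlobal_of_geometric _)

end Groth.L22.Adjunction
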