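import Groth.Agent.L22.Adjunction.SmoothDual
import Groth.Agent.L12.RegLift
import Groth.Agent.L07.RegSpread
import Groth.Agent.L14.RegImmStalk.Stalk

/-!
The dualizing sheaf of a local complete intersection in projective space.
-/

set_option autoImplicit false
set_option backward.isDefEq.respectTransparency false
set_option linter.style.haveILetI false
universe u

open CategoryTheory CategoryTheory.Limits AlgebraicGeometry TopologicalSpace Opposite

noncomputable section

namespace Groth.L22.Adjunction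

open Groth.L16.HomSh (homMod homModF tensorHomAdj)
open Groth.L00.Tensor (tensorLeftF tensorRightF tensorFlipIso)

variable {k : Type u} [Field k] {N r : ℕ} {X : Scheme.{u}} [X.Over (Spec (CommRingCat.of k))]
  (ι : X ⟶ CohB1.ProjSpace N k) [IsClosedImmersion ι]
  (hι : ι ≫ CohB1.ProjSpace.toSpec N k = X ↘ Spec (CommRingCat.of k))
  (heq : ∀ Z : Set ↥X, Z ∈ irreducibleComponents ↥X → topologicalKrullDim ↥Z = ((N - r : ℕ) : WithBot ℕ∞))

include hι heq in
/-- The local rings of a closed subscheme of pure codimension `r` have dimension `r` less. -/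
theorem ringKrullDim_stalk_add (hr : r ≤ N) (x : X) :
    ringKrullDim (X.presheaf.stalk x) + (r : WithBot ℕ∞) =
      ringKrullDim ((CohB1.ProjSpace N k).presheaf.stalk (ι x)) := by
  let P := CohB1.ProjSpace N k
  letI : P.Over (Spec (CommRingCat.of k)) := ⟨CohB1.ProjSpace.toSpec N k⟩
  haveI := Groth.L22.PDual.proper N k
  haveI : IsProper (P ↘ Spec (CommRingCat.of k)) := Groth.L22.PDual.proper N k
  haveI : SmoothOfRelativeDimension N (P ↘ Spec (CommRingCat.of k)) :=
    (inferInstance : SmoothOfRelativeDimension N (CohB1.ProjSpace.toSpec N k))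
  haveI : IsProper (X ↘ Spec (CommRingCat.of k)) := hι ▸ inferInstance
  obtain ⟨a, b, ha, hb, hloc⟩ := Groth.L22.SchemeDim.exists_localDim k X x
  obtain ⟨a', b', ha', hb', hloc'⟩ := Groth.L22.SchemeDim.exists_localDim k P (ι x)
  obtain ⟨m, hm, htr⟩ := Groth.L22.SchemeDim.exists_dim_closure_eq_trdeg k X x
  obtain ⟨m', hm', htr'⟩ := Groth.L22.SchemeDim.exists_dim_closure_eq_trdeg k P (ι x)
  obtain rfl : a = m := by exact_mod_cast ha.symm.trans htr
  obtain rfl : a' = m' := by exact_mod_cast ha'.symm.trans htr'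
  have hc : topologicalKrullDim (closure ({ι x} : Set ↥P)) = topologicalKrullDim (closure ({x} : Set ↥X)) := by
    refine Groth.L22.SchemeDim.topologicalKrullDim_eq_of_isEmbedding
      (f := fun y : closure ({x} : Set ↥X) => ι y.1) (ι.isEmbedding.comp Topology.IsEmbedding.subtypeVal) ?_
    rw [show (Set.range fun y : closure ({x} : Set ↥X) => ι y.1) = ι '' closure {x} from
      (Set.image_eq_range _ _).symm, ← ι.isClosedEmbedding.closure_image_eq, Set.image_singleton]
  have haa : a' = a := by exact_mod_cast hm'.symm.trans (hc.trans hm)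
  have h1 := Groth.L22.ExtSh.le_localDim_of_equidim k heq x
  have h2 : FlatMor.localDim X x ≤ ((N - r : ℕ) : WithBot ℕ∞) :=
    (iInf_le_of_le ⟨⊤, trivial⟩ (topologicalKrullDim_subspace_le _ _)).trans
      (Groth.L22.ExtSh.topologicalKrullDim_le_of_components fun Z hZ => (heq Z hZ).le)
  rw [hloc] at h1 h2
  have e1 : N - r ≤ a + b := by exact_mod_cast h1
  have e2 : a + b ≤ N - r := by exact_mod_cast h2
  have e3 : a' + b' = N := by exact_mod_cast hloc'.symm.trans (localDim_eq k N P (ι x))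
  rw [hb, hb']
  exact_mod_cast (show b + r = b' by omega)

include hι heq in
/-- A local complete intersection is regularly immersed. -/
theorem isRegularImmersionOfCodim_lci (hr : r ≤ N)
    (hgen : ∀ x : X, ∃ U : (CohB1.ProjSpace N k).affineOpens, ι.base x ∈ (U : (CohB1.ProjSpace N k).Opens) ∧
      ∃ f : Fin r → Γ(CohB1.ProjSpace N k, (U : (CohB1.ProjSpace N k).Opens)), ι.ker.ideal U = Ideal.span (Set.range f)) :
    RegImm.IsRegularImmersionOfCodim RegImm.Kind.regular r ι := by
  let P := CohB1.ProjSpace N k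
  haveI := Groth.L22.PDual.proper N k
  haveI := Groth.L21.RR.isNoetherian_of_proper (X := P) k
  refine ⟨inferInstance, fun x => ?_⟩
  obtain ⟨⟨W, hW⟩, hz, f, hf⟩ := hgen x
  have hker : RingHom.ker (ι.app W).hom = Ideal.ofList (List.ofFn f) := by
    rw [← Scheme.Hom.ker_apply ι ⟨W, hW⟩, hf]
    exact congrArg Ideal.span (Set.ext fun a => by simp [List.mem_ofFn])
  haveI : IsNoetherianRing Γ(P, W) := IsLocallyNoetherian.component_noetherian ⟨W, hW⟩
  letI : Algebra Γ(P, W) (P.presheaf.stalk (ι x)) := (P.presheaf.germ W (ι x) hz).hom.toAlgebra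
  haveI := hW.isLocalization_stalk ⟨ι x, hz⟩
  let Q := (hW.primeIdealOf ⟨ι x, hz⟩).asIdeal
  let L := P.presheaf.stalk (ι x)
  haveI : IsRegularLocalRing L := by
    haveI : Smooth (CohB1.ProjSpace.toSpec N k) := SmoothOfRelativeDimension.smooth N _
    exact Groth.L21.Smooth.regular_stalk (CohB1.ProjSpace.toSpec N k) (ι x)
  haveI := Groth.L04.isCohenMacaulayLocalRing_of_regular L
  let l := List.ofFn f
  have hk : RingHom.ker (ι.stalkMap x).hom = Ideal.ofList (l.map (algebraMap Γ(P, W) L)) := by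
    rw [Groth.L14.RegImmStalk.ker_stalkMap ι hW inferInstance x hz, hker, Ideal.map_ofList]
    rfl
  have hmax : ∀ y ∈ l.map (algebraMap Γ(P, W) L), y ∈ IsLocalRing.maximalIdeal L := fun y hy =>
    IsLocalRing.le_maximalIdeal (RingHom.ker_ne_top _) (hk.ge (Ideal.subset_span hy))
  have hw : RingTheory.Sequence.IsWeaklyRegular L (l.map (algebraMap Γ(P, W) L)) := by
    refine Groth.L12.RegLift.isWeaklyRegular_of_dim _ hmax ?_
    rw [← hk, ringKrullDim_eq_of_ringEquiv
      (RingHom.quotientKerEquivOfSurjective (Scheme.Hom.stalkMap_surjective ι x)), List.length_map,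
      List.length_ofFn]
    exact ringKrullDim_stalk_add ι hι heq hr x
  obtain ⟨g, hg, hT⟩ := Groth.L07.RegSeq.exists_away_isWeaklyRegular l Q L hw
  have hzD : ι x ∈ P.basicOpen g := by
    rw [P.mem_basicOpen _ _ hz]
    exact IsLocalization.map_units L (⟨g, hg⟩ : Q.primeCompl)
  letI : Algebra Γ(P, W) Γ(P, P.basicOpen g) := (P.presheaf.map (homOfLE (P.basicOpen_le g)).op).hom.toAlgebra
  haveI : IsLocalization.Away g Γ(P, P.basicOpen g) := hW.isLocalization_basicOpen g
  have hlD := hT Γ(P, P.basicOpen g) g inferInstance dvd_rfl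
  have hgenD : RingHom.ker (ι.app (P.basicOpen g)).hom =
      Ideal.ofList (l.map (algebraMap Γ(P, W) Γ(P, P.basicOpen g))) := by
    rw [← Groth.L22.FLI.ker_basicOpen ⟨W, hW⟩ g, hker, Ideal.map_ofList]
    rfl
  refine ⟨⟨_, hW.basicOpen g⟩, hzD, inferInstance, _, ?_, ⟨hlD, fun htop => ?_⟩, hgenD⟩
  · rw [List.length_map, List.length_ofFn]
  · rw [smul_eq_mul, Ideal.mul_top, ← hgenD] at htop
    have h1 : (1 : Γ(P, P.basicOpen g)) ∈ RingHom.ker (ι.app (P.basicOpen g)).hom := htop ▸ Submodule.mem_top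
    rw [RingHom.mem_ker, map_one] at h1
    have h2 := congrArg (X.presheaf.germ (ι ⁻¹ᵁ P.basicOpen g) x hzD).hom h1
    rw [map_one, map_zero] at h2
    exact one_ne_zero h2

include hι heq in
/-- The dualizing sheaf of a local complete intersection. -/
theorem exists_trace_lci (hr : r ≤ N)
    (hgen : ∀ x : X, ∃ U : (CohB1.ProjSpace N k).affineOpens, ι.base x ∈ (U : (CohB1.ProjSpace N k).Opens) ∧
      ∃ f : Fin r → Γ(CohB1.ProjSpace N k, (U : (CohB1.ProjSpace N k).Opens)), ι.ker.ideal U = Ideal.span (Set.range f))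
    (C : X.Modules) (hC : ExtPow.IsExtPow r (Omega.conormal ι) C) [DCoh.HasSheafHom C] :
    ∃ t : Coh.HH X (CohB1.tensorMod ((Scheme.Modules.pullback ι).obj (Twist.twistProjSpace N k (-((N : ℤ) + 1))))
        ((DCoh.sheafHom C).obj (Coh.structureModule X))) (N - r) →ₗ[k] k, Groth.L22.DualCM.IsDual t := by
  have hreg := isRegularImmersionOfCodim_lci ι hι heq hr hgen
  haveI := Groth.L22.PDual.proper N k
  haveI := Groth.L21.RR.isNoetherian_of_proper (X := CohB1.ProjSpace N k) k
  haveI := Groth.L00.Tensor.grothendieckAbelian_modules (CohB1.ProjSpace N k)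
  have hCi : PicF.IsInvertible C := by
    obtain ⟨φ, hφ⟩ := hC
    refine Groth.L22.CurveDeg.Det.isInvertible_of_extPow φ hφ (Groth.L12.FinCov.isFinLocFreeOfRank_of_bases fun x => ?_)
    obtain ⟨c, hc⟩ := Groth.L22.FLI.exists_chart ι hreg x
    exact ⟨ι ⁻¹ᵁ c.U.1, c.cl, hc, c.isBasisS_cl⟩
  let F := Twist.twistProjSpace N k (-((N : ℤ) + 1))
  haveI : Coh.IsQCoh F := Groth.L04.FinLocFreeHom.isQCoh_of_finLocFree
    (Groth.L20.ResDescent.isFinLocFree_of_isInvertible (Groth.L16.ProjTwist.isInvertible_twistProjSpace N k _))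
  let M := (Scheme.Modules.pullback ι).obj F
  obtain ⟨e⟩ := Groth.L22.FLI.nonempty_extSh_iso_homMod (F := F) hreg hC
  obtain ⟨C', -, ⟨eC⟩⟩ := Groth.L08.Cube.exists_inverse hCi
  let eS : DCoh.sheafHom C ≅ homModF C :=
    (DCoh.sheafHomAdj C).rightAdjointUniq ((tensorHomAdj C).ofNatIsoLeft (Groth.L22.PDual.biIso C))
  obtain ⟨u₁⟩ := nonempty_homMod_tensor hCi C'
  obtain ⟨u₂⟩ := nonempty_homMod_tensor hCi (CohB1.tensorMod C' M)
  -- `Hom(C, O) = C'` and `Hom(C, M) = C' ⊗ M`
  let v₁ : (DCoh.sheafHom C).obj (Coh.structureModule X) ≅ C' := eS.app _ ≪≫ (homModF C).mapIso eC.symm ≪≫ u₁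
  let v₂ : homMod C M ≅ CohB1.tensorMod C' M :=
    (homModF C).mapIso ((Groth.L00.Tensor.tensorUnitLeft M).symm ≪≫
      Groth.L00.Tensor.tensorIso eC.symm (Iso.refl M) ≪≫ Groth.L00.Tensor.tensorAssoc C C' M) ≪≫ u₂
  let v : CohB1.tensorMod M ((DCoh.sheafHom C).obj (Coh.structureModule X)) ≅ homMod C M :=
    Groth.L00.Tensor.tensorIso (Iso.refl M) v₁ ≪≫ Groth.L00.Tensor.tensorComm M C' ≪≫ v₂.symm
  refine Groth.L22.ClosedDual.exists_trace ι hι (show N - r + r = N by omega) ?_
    ⟨(Scheme.Modules.pushforward ι).mapIso v ≪≫ e.symm⟩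
  refine (add_le_add (Groth.L22.ExtSh.topologicalKrullDim_le_of_components fun Z hZ => (heq Z hZ).le) le_rfl).trans ?_
  exact_mod_cast (show N - r + r ≤ N by omega)

end Groth.L22.Adjunction
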