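import Groth.Agent.L22.Adjunction.PnOmega
import Groth.Agent.L22.Adjunction.ExtTop
import Groth.Agent.L16.ProjSpace.Basic
import Groth.Agent.L19.OmegaSh.GroupScheme
import Groth.Agent.L12.StabLimit

/-!
The canonical sheaf of a relative projective space.
-/

set_option autoImplicit false
set_option backward.isDefEq.respectTransparency false
set_option linter.style.haveILetI false
universe u

open CategoryTheory CategoryTheory.Limits AlgebraicGeometry TopologicalSpace Opposite
open scoped ZeroObject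

noncomputable section

namespace Groth.L22.Adjunction

/-- Top forms commute with a morphism under which the module is the pullback. -/
theorem nonempty_det_pullback {Z X : Scheme.{u}} (f : Z ⟶ X) {n : ℕ} {E W : X.Modules}
    (hE : FlatMod.IsFinLocFreeOfRank n E) (hW : ExtPow.IsExtPow n E W) {A L : Z.Modules}
    (hA : FlatMod.IsFinLocFreeOfRank n A) (hL : ExtPow.IsExtPow n A L)
    (e : (Scheme.Modules.pullback f).obj E ≅ A) : Nonempty ((Scheme.Modules.pullback f).obj W ≅ L) := by
  haveI := Groth.L00.Tensor.grothendieckAbelian_modules Z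
  let B : Z.Modules := 0
  have hB0 : IsZero B := isZero_zero _
  have hsub : ∀ U : Z.Opens, Subsingleton Γ(B, U) := fun U => ⟨fun s t => by
    have h := hB0.eq_of_src (𝟙 B) 0
    have h1 : ∀ s : Γ(B, U), s = 0 := fun s => (congr($(congrArg (fun g : B ⟶ B => g.app U) h) s))
    rw [h1 s, h1 t]⟩
  have hB : FlatMod.IsFinLocFreeOfRank 0 B := Groth.L12.FinCov.isFinLocFreeOfRank_of_bases fun x =>
    ⟨⊤, fun i => i.elim0, trivial, fun V h => ⟨fun a b _ => funext fun i => i.elim0,
      fun y => ⟨fun i => i.elim0, @Subsingleton.elim _ (hsub V) _ _⟩⟩⟩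
  have hLB : ExtPow.IsExtPow 0 B (Coh.structureModule Z) :=
    ⟨fun U => (exteriorPower.zeroEquiv Γ(Z, U.1) (B.val.obj (op U.1))).symm, fun U V h v => by
      show Z.presheaf.map (homOfLE h).op
          ((exteriorPower.zeroEquiv Γ(Z, U.1) (B.val.obj (op U.1))) (exteriorPower.ιMulti _ 0 v)) =
        (exteriorPower.zeroEquiv Γ(Z, V.1) (B.val.obj (op V.1))) (exteriorPower.ιMulti _ 0 _)
      rw [exteriorPower.zeroEquiv_ιMulti, exteriorPower.zeroEquiv_ιMulti, map_one]⟩
  obtain ⟨r⟩ := nonempty_det_iso f (p := n) (q := 0) hE hW hA hL hB hLB e.inv 0 comp_zero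
    { exact := (ShortComplex.exact_iff_epi _ rfl).2 inferInstance
      mono_f := inferInstance
      epi_g := ⟨fun u v _ => hB0.eq_of_src u v⟩ }
  exact ⟨r ≪≫ Groth.L00.Tensor.tensorUnitRight L⟩

/-- The canonical sheaf of projective space over a base. -/
theorem nonempty_topForms_projSpaceOver (Y : Scheme.{u}) (n : ℕ) [QuasiSeparated (CohB1.ProjSpaceOver.toBase n Y)]
    {L : (CohB1.ProjSpaceOver n Y).Modules}
    (hL : ExtPow.IsExtPow n (Omega.sheaf (CohB1.ProjSpaceOver.toBase n Y)) L) :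
    Nonempty (L ≅ Twist.twistOver n Y (-(n : ℤ) - 1)) := by
  let R : Type u := ULift.{u} ℤ
  haveI : QuasiSeparated (CohB1.ProjSpace.toSpec n R) := inferInstance
  let g' : CohB1.ProjSpaceOver n Y ⟶ CohB1.ProjSpace n R :=
    pullback.fst (CohB1.ProjSpace.toSpec n R) (specULiftZIsTerminal.from Y)
  have hd := Groth.L19.OmegaSh.isUniversal_dOmega (f := CohB1.ProjSpace.toSpec n R)
  have hd' := Groth.L19.OmegaSh.isUniversal_dOmega (f := CohB1.ProjSpaceOver.toBase n Y)
  have hsq : IsPullback g' (CohB1.ProjSpaceOver.toBase n Y) (CohB1.ProjSpace.toSpec n R)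
      (specULiftZIsTerminal.from Y) := IsPullback.of_hasPullback _ _
  obtain ⟨c, hc, -⟩ := Groth.L19.OmegaSh.existsUnique_diffCompat g' (specULiftZIsTerminal.from Y) hsq.w.symm hd
    (OmegaSh.dOmega (CohB1.ProjSpaceOver.toBase n Y))
  haveI := Groth.Agent.S9386.result _ _ g' _ hsq _ _ hd _ _ hd' c hc
  have hE := Groth.L02.Canon.isFinLocFreeOfRank_omega (f := CohB1.ProjSpace.toSpec n R) n
  obtain ⟨W, hW, -⟩ := exists_isExtPow hE
  obtain ⟨e1⟩ := nonempty_topForms_projSpace n R hW
  obtain ⟨e2⟩ := nonempty_det_pullback g' hE hW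
    (Groth.L02.Canon.isFinLocFreeOfRank_omega (f := CohB1.ProjSpaceOver.toBase n Y) n) hL (asIso c)
  rw [show -(n : ℤ) - 1 = -((n : ℤ) + 1) by ring]
  exact ⟨e2.symm ≪≫ (Scheme.Modules.pullback g').mapIso e1⟩

end Groth.L22.Adjunction
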