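import Groth.Agent.L22.Adjunction.PnOmega
import Groth.Agent.L22.Adjunction.ExtTop
import Groth.Agent.L22.ExtSh.ClosedDual
import Groth.Agent.L16.ProjSpace.Basic
import Groth.Agent.L21.GorChart
import Groth.Agent.L06.GenericFibreDim
import Groth.Agent.L03.Euler.Basic

/-!
Top forms of a smooth closed subscheme of projective space are dualizing.
-/

set_option autoImplicit false
set_option backward.isDefEq.respectTransparency false
set_option linter.style.haveILetI false
universe u

open CategoryTheory CategoryTheory.Limits AlgebraicGeometry TopologicalSpace Opposite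

noncomputable section

namespace Groth.L22.Adjunction

/-- A scheme smooth of relative dimension `r` over a field has dimension at most `r`. -/
theorem topologicalKrullDim_le_relDim {k : Type u} [Field k] {X : Scheme.{u}} (p : X ⟶ Spec (CommRingCat.of k))
    (r : ℕ) [SmoothOfRelativeDimension r p] : topologicalKrullDim X ≤ (r : WithBot ℕ∞) := by
  let s : Spec (CommRingCat.of k) := default
  have hsurj : Function.Surjective (p.fiberι s) := fun x => by
    have : x ∈ Set.range (p.fiberι s) := by
      rw [p.range_fiberι s]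
      exact Subsingleton.elim (α := PrimeSpectrum k) _ _
    exact this
  rw [← ((p.fiberι s).isEmbedding.toHomeomorphOfSurjective hsurj).isHomeomorph.topologicalKrullDim_eq,
    ← Groth.L06.GenericFibreDim.iSup_stalks]
  exact iSup_le fun z => Groth.L21.GorChart.dim_stalk_fiber_le p r s z

/-- The top forms of a smooth closed subscheme of projective space are dualizing. -/
theorem exists_trace_smooth (k : Type u) [Field k] (n r : ℕ)
    (X : Scheme.{u}) [X.Over (Spec (CommRingCat.of k))] (ι : X ⟶ CohB1.ProjSpace n k) [IsClosedImmersion ι]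
    (hι : ι ≫ CohB1.ProjSpace.toSpec n k = X ↘ Spec (CommRingCat.of k))
    [SmoothOfRelativeDimension r (X ↘ Spec (CommRingCat.of k))]
    (Ω : X.Modules) (hΩ : ExtPow.IsExtPow r (Omega.sheaf (X ↘ Spec (CommRingCat.of k))) Ω) :
    ∃ t : Coh.HH X Ω r →ₗ[k] k, Groth.L22.DualCM.IsDual t := by
  by_cases hr : r ≤ n
  · haveI := Groth.L22.PDual.proper n k
    haveI := Groth.L21.RR.isNoetherian_of_proper (X := CohB1.ProjSpace n k) k
    haveI : QuasiSeparated (CohB1.ProjSpace.toSpec n k) := inferInstance
    haveI := Groth.L00.Tensor.grothendieckAbelian_modules (CohB1.ProjSpace n k)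
    haveI : SmoothOfRelativeDimension r (ι ≫ CohB1.ProjSpace.toSpec n k) := hι ▸ inferInstance
    have hΩ' : ExtPow.IsExtPow r (Omega.sheaf (ι ≫ CohB1.ProjSpace.toSpec n k)) Ω := by
      simp only [hι]
      exact hΩ
    obtain ⟨ΩP, hΩP, -⟩ := exists_isExtPow (Groth.L02.Canon.isFinLocFreeOfRank_omega
      (f := CohB1.ProjSpace.toSpec n k) n)
    obtain ⟨e1⟩ := nonempty_topForms_projSpace n k hΩP
    obtain ⟨e2⟩ := nonempty_push_topForms_iso_extSh (CohB1.ProjSpace.toSpec n k) ι n r hΩP hΩ'
    refine Groth.L22.ClosedDual.exists_trace ι hι (c := n - r) (by omega) ?_ ⟨e2 ≪≫ Functor.mapIso _ e1⟩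
    refine (add_le_add (topologicalKrullDim_le_relDim (X ↘ Spec (CommRingCat.of k)) r) le_rfl).trans ?_
    exact_mod_cast (show r + (n - r) ≤ n by omega)
  · haveI : IsEmpty X := ⟨fun x => by
      haveI : SmoothOfRelativeDimension r (ι ≫ CohB1.ProjSpace.toSpec n k) := hι ▸ inferInstance
      haveI := Groth.L22.PDual.proper n k
      haveI := Groth.L21.RR.isNoetherian_of_proper (X := CohB1.ProjSpace n k) k
      obtain ⟨r', c, rs, -, -, -, -, h⟩ := exists_chart_smooth (CohB1.ProjSpace.toSpec n k) ι n r x
      omega⟩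
    refine ⟨0, fun F _ ψ => ?_⟩
    have := Groth.L03.Euler.subsingleton_HH_of_isZero (isZero_of_isEmpty F) r
    exact ⟨0, fun x => by simp [Subsingleton.elim x 0],
      fun φ _ => (isZero_of_isEmpty F).eq_of_src _ _⟩

end Groth.L22.Adjunction
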