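import Groth.Agent.L22.Adjunction.LCI
import Groth.Agent.L17.SheafHomCoh
import Groth.Agent.L19.IdealInvertible
import Groth.Agent.L29.DCoh.PullTensor

/-!
Duals of invertible modules and the normal sheaf of an effective Cartier divisor.
-/

set_option autoImplicit false
set_option backward.isDefEq.respectTransparency false
set_option linter.style.haveILetI false
universe u

open CategoryTheory CategoryTheory.Limits AlgebraicGeometry

noncomputable section

namespace Groth.L22.Adjunction

open Groth.L16.HomSh (homMod homModF tensorHomAdj)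

/-- The dual of an invertible module is any inverse of it. -/
theorem nonempty_dual_iso {X : Scheme.{u}} {L L' : X.Modules} (hL : PicF.IsInvertible L)
    (e : CohB1.tensorMod L L' ≅ Coh.structureModule X) : Nonempty (RefHull.dual L ≅ L') := by
  haveI : DCoh.HasSheafHom L := ⟨_, ⟨(tensorHomAdj L).ofNatIsoLeft (Groth.L22.PDual.biIso L)⟩⟩
  let eS : DCoh.sheafHom L ≅ homModF L :=
    (DCoh.sheafHomAdj L).rightAdjointUniq ((tensorHomAdj L).ofNatIsoLeft (Groth.L22.PDual.biIso L))
  obtain ⟨u⟩ := nonempty_homMod_tensor hL L'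
  exact ⟨(Groth.L17.SheafHomCoh.isoHomSh L _).symm ≪≫ eS.app _ ≪≫ (homModF L).mapIso e.symm ≪≫ u⟩

/-- The dual of an invertible module commutes with pullback. -/
theorem nonempty_dual_pullback {X Z : Scheme.{u}} (f : Z ⟶ X) {L : X.Modules} (hL : PicF.IsInvertible L) :
    Nonempty (RefHull.dual ((Scheme.Modules.pullback f).obj L) ≅
      (Scheme.Modules.pullback f).obj (RefHull.dual L)) := by
  obtain ⟨L', -, ⟨e⟩⟩ := Groth.L08.Cube.exists_inverse hL
  obtain ⟨d⟩ := nonempty_dual_iso hL e
  obtain ⟨d'⟩ := nonempty_dual_iso (Groth.L18.Ample.isInvertible_pullback f hL)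
    (L' := (Scheme.Modules.pullback f).obj L')
    (Groth.L29.DC.PullTensor.pullTensor f L L' ≪≫ (Scheme.Modules.pullback f).mapIso e ≪≫
      Groth.L29.LocFree.pullbackUnitIso f)
  exact ⟨d' ≪≫ ((Scheme.Modules.pullback f).mapIso d).symm⟩

/-- The normal sheaf of an effective Cartier divisor. -/
theorem nonempty_normal_divisor {S : Scheme.{u}} (D : S.IdealSheafData) (hD : BlowUp.IsEffCartierIdeal D) :
    Nonempty (RefHull.dual (Omega.conormal D.subschemeι) ≅
      (Scheme.Modules.pullback D.subschemeι).obj (RefHull.dual (ClSub.idealMod D))) := by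
  have h : Omega.conormal D.subschemeι = (Scheme.Modules.pullback D.subschemeι).obj (ClSub.idealMod D) := by
    rw [Omega.conormal, Scheme.IdealSheafData.ker_subschemeι]
  rw [h]
  exact nonempty_dual_pullback D.subschemeι ((Groth.Agent.L19.IdealInvertible.isEffCartier_iff _).2 hD)

end Groth.L22.Adjunction
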