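import Groth.Agent.L22.Adjunction.SmoothDual
import Groth.Agent.L22.WedgePair.Sheaf

/-!
The symmetry of the dimensions of the cohomology of differential forms.
-/

set_option autoImplicit false
set_option backward.isDefEq.respectTransparency false
set_option linter.style.haveILetI false
universe u

open CategoryTheory CategoryTheory.Limits AlgebraicGeometry TopologicalSpace Opposite

noncomputable section

namespace Groth.L22.Adjunction

open Groth.L16.HomSh (homMod homModF tensorHomAdj)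

variable (k : Type u) [Field k] (n : ℕ) (X : Scheme.{u}) [X.Over (Spec (CommRingCat.of k))]
  [SmoothOfRelativeDimension n (X ↘ Spec (CommRingCat.of k))] [Nonempty X]
  {r : ℕ} (ι : X ⟶ CohB1.ProjSpace r k) [IsClosedImmersion ι]
  (hι : ι ≫ CohB1.ProjSpace.toSpec r k = X ↘ Spec (CommRingCat.of k))

include hι in
/-- `h^q(Ω^p) = h^(n-q)(Ω^(n-p))`. -/
theorem finrank_symm (p q : ℕ) (hp : p ≤ n) (hq : q ≤ n) (L L' : X.Modules)
    (hL : ExtPow.IsExtPow p (Omega.sheaf (X ↘ Spec (CommRingCat.of k))) L)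
    (hL' : ExtPow.IsExtPow (n - p) (Omega.sheaf (X ↘ Spec (CommRingCat.of k))) L') :
    Module.finrank k (Coh.HH X L q) = Module.finrank k (Coh.HH X L' (n - q)) := by
  haveI := isProper_of_closed k X ι hι
  haveI := Groth.L21.RR.isNoetherian_of_proper (X := X) k
  haveI := Groth.L00.Tensor.grothendieckAbelian_modules X
  haveI : HasExt.{u} X.Modules := inferInstance
  have hE := Groth.L02.Canon.isFinLocFreeOfRank_omega (f := X ↘ Spec (CommRingCat.of k)) n
  obtain ⟨D, hD, -⟩ := exists_isExtPow hE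
  have hD' := hD
  obtain ⟨φa, ha⟩ := hL
  obtain ⟨φb, hb⟩ := hL'
  obtain ⟨φn, hn⟩ := hD'
  obtain ⟨e⟩ := Groth.L22.WedgePair.nonempty_iso_homMod φa φb φn (Nat.add_sub_cancel' hp) ha hb hn hE
  have hLf := Groth.L22.WedgePair.isFinLocFree_extPow φa ha hE
  let e0 : Groth.L00.Tensor.tensorLeftF L ≅ (DCoh.tensorBi (X := X)).obj L := Groth.L22.PDual.biIso L
  haveI : DCoh.HasSheafHom L := ⟨_, ⟨(tensorHomAdj L).ofNatIsoLeft e0⟩⟩
  let eS : DCoh.sheafHom L ≅ homModF L :=
    (DCoh.sheafHomAdj L).rightAdjointUniq ((tensorHomAdj L).ofNatIsoLeft e0)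
  obtain ⟨-, h2⟩ := finite_ext_and_finrank k n X ι hι hD (Groth.L16.NegPow.isCoh_of_isFinLocFree hLf)
    (i := n - q) (Nat.sub_le n q)
  rw [Nat.sub_sub_self hq] at h2
  obtain ⟨e1⟩ := Groth.L22.PDual.nonempty_ext_linearEquiv (k := k) L hLf (n - q) D
  let v : (DCoh.sheafHom L).obj D ≅ L' := eS.app D ≪≫ e.symm
  let φ := Groth.L16.CohLinear.hmap v.hom (n - q)
  let ψ := Groth.L16.CohLinear.hmap v.inv (n - q)
  have h1 : ∀ x, ψ (φ x) = x := fun x => by
    rw [← Groth.L16.CohLinear.hmap_comp, Iso.hom_inv_id, Groth.L16.CohLinear.hmap_id]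
  have h3 : ∀ x, φ (ψ x) = x := fun x => by
    rw [← Groth.L16.CohLinear.hmap_comp, Iso.inv_hom_id, Groth.L16.CohLinear.hmap_id]
  let e2 : Coh.HH X ((DCoh.sheafHom L).obj D) (n - q) ≃ₗ[k] Coh.HH X L' (n - q) :=
    { toFun := φ, invFun := ψ, left_inv := h1, right_inv := h3
      map_add' := map_add φ
      map_smul' := fun c x => φ.map_smul (Coh.toGlobal (X ↘ Spec (CommRingCat.of k)) c) x }
  rw [← h2]
  exact (e1.trans e2).finrank_eq

end Groth.L22.Adjunction
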