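import Groth.Agent.L05.SmoothAdapted.Main
import Groth.Agent.L02.CAlg.QFSlice.RegSeq
import Groth.Agent.L22.FLI.Chart
import Mathlib.RingTheory.Smooth.Flat
import Mathlib.AlgebraicGeometry.Morphisms.Smooth

/-!
A closed subscheme smooth over the base of a scheme smooth over the base is locally cut out by a regular
sequence.
-/

set_option autoImplicit false
set_option maxSynthPendingDepth 3
set_option linter.style.haveILetI false
universe u

open CategoryTheory CategoryTheory.Limits AlgebraicGeometry TopologicalSpace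
open scoped TensorProduct

noncomputable section

namespace Groth.L22.Adjunction

/-- Minimal generators of a finitely generated ideal at a prime. -/
theorem exists_minimal_generators {B : Type u} [CommRing B] (J : Ideal B) (hJ : J.FG) (q : Ideal B) [q.IsPrime] :
    ∃ (r : ℕ) (g : Fin r → B), (∀ i, g i ∈ J) ∧
      r = Module.finrank q.ResidueField (q.ResidueField ⊗[B] J) ∧
      J.map (algebraMap B (Localization.AtPrime q)) =
        Ideal.span (Set.range fun i => algebraMap B (Localization.AtPrime q) (g i)) := by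
  classical
  let R := Localization.AtPrime q
  let κ := q.ResidueField
  haveI : Module.Finite B J := Module.Finite.iff_fg.mpr hJ
  let W := κ ⊗[B] J
  let v : J → W := fun j => (1 : κ) ⊗ₜ[B] j
  have hv : Submodule.span κ (Set.range v) = ⊤ := by
    refine eq_top_iff.mpr fun x _ => ?_
    induction x using TensorProduct.induction_on with
    | zero => simp
    | add a b ha hb => exact Submodule.add_mem _ (ha trivial) (hb trivial)
    | tmul c j =>
      rw [← mul_one c, ← smul_eq_mul, ← TensorProduct.smul_tmul']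
      exact Submodule.smul_mem _ _ (Submodule.subset_span ⟨j, rfl⟩)
  obtain ⟨bs, hbs, hspan, hli⟩ := exists_linearIndependent κ (Set.range v)
  have htop : Submodule.span κ bs = ⊤ := hspan.trans hv
  haveI : Fintype bs := hli.setFinite.fintype
  let r := Fintype.card bs
  let bas : Module.Basis (Fin r) κ W :=
    (Module.Basis.mk hli (by rw [Subtype.range_coe, htop])).reindex (Fintype.equivFin bs)
  choose j hj using fun i : Fin r => (hbs ((Fintype.equivFin bs).symm i).2)
  refine ⟨r, fun i => (j i).1, fun i => (j i).2,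
    ((Module.finrank_eq_card_basis bas).trans (Fintype.card_fin r)).symm, ?_⟩
  let e : R ⊗[B] J ≃ₗ[R] (J.map (algebraMap B R) : Ideal R) :=
    (IsLocalizedModule.isBaseChange q.primeCompl R (Algebra.idealMap J (S := R))).equiv
  let c : κ ⊗[R] (R ⊗[B] J) ≃ₗ[κ] W := TensorProduct.AlgebraTensorModule.cancelBaseChange B R κ κ J
  have hgen := IsLocalRing.span_eq_top_of_tmul_eq_basis (R := R) (fun i => (1 : R) ⊗ₜ[B] j i) (bas.map c.symm)
    fun i => by
      rw [Module.Basis.map_apply]
      refine (LinearEquiv.eq_symm_apply _).2 ?_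
      rw [TensorProduct.AlgebraTensorModule.cancelBaseChange_tmul, one_smul, Module.Basis.reindex_apply,
        Module.Basis.mk_apply]
      exact hj i
  have h := congrArg (Submodule.map (((J.map (algebraMap B R) : Ideal R).subtype).comp e.toLinearMap)) hgen
  rw [Submodule.map_span, Submodule.map_comp, Submodule.map_top, LinearEquiv.range, Submodule.map_top,
    Submodule.range_subtype, ← Set.range_comp] at h
  refine h.symm.trans ?_
  refine congrArg (fun w => Ideal.span (Set.range w)) (funext fun i => ?_)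
  show (e ((1 : R) ⊗ₜ[B] j i)).1 = algebraMap B R (j i).1
  rw [IsBaseChange.equiv_tmul, one_smul]
  rfl

/-- Near a prime at which both the algebra and its quotient are smooth, the ideal is generated by a
weakly regular sequence. -/
theorem exists_regular_away (A B : Type u) [CommRing A] [CommRing B] [Algebra A B]
    [Algebra.FinitePresentation A B] (J : Ideal B) (hJ : J.FG) (q : Ideal B) [q.IsPrime] (hJq : J ≤ q)
    [Algebra.IsSmoothAt A q] (Q : Ideal (B ⧸ J)) [Q.IsPrime] (hQ : Q.comap (Ideal.Quotient.mk J) = q)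
    [Algebra.IsSmoothAt A Q] :
    ∃ f ∉ q, ∀ (D : Type u) [CommRing D] [Algebra B D] [IsLocalization.Away f D],
      ∃ rs : List D, RingTheory.Sequence.IsWeaklyRegular D rs ∧ J.map (algebraMap B D) = Ideal.ofList rs := by
  obtain ⟨r, g, hg, hr, hgen⟩ := exists_minimal_generators J hJ q
  obtain ⟨f, hf, m, g', het, hJf⟩ := Groth.L05.SmoothAdapted.exists_coordinates A B J hJ q hJq Q hQ r g hg hgen hr
  refine ⟨f, hf, fun D _ _ _ => ?_⟩
  let L := Localization.Away f
  let ε : L ≃ₐ[B] D := IsLocalization.algEquiv (Submonoid.powers f) L D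
  let φ : MvPolynomial (Fin r) (MvPolynomial (Fin m) A) →+* D :=
    (ε.toRingEquiv.toRingHom.comp ((MvPolynomial.aeval (Sum.elim (fun i => algebraMap B L (g i)) g') :
      MvPolynomial (Fin r ⊕ Fin m) A →ₐ[A] L).toRingHom)).comp
        (MvPolynomial.sumAlgEquiv A (Fin r) (Fin m)).symm.toRingEquiv.toRingHom
  have hφ : φ.Flat :=
    RingHom.Flat.comp (RingHom.Flat.of_bijective (MvPolynomial.sumAlgEquiv A (Fin r) (Fin m)).symm.bijective)
      (RingHom.Flat.comp (RingHom.Smooth.flat (((RingHom.etale_iff_formallyUnramified_and_smooth _).1 het).2)) (RingHom.Flat.of_bijective ε.bijective))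
  letI : Algebra (MvPolynomial (Fin r) (MvPolynomial (Fin m) A)) D := φ.toAlgebra
  haveI : Module.Flat (MvPolynomial (Fin r) (MvPolynomial (Fin m) A)) D := hφ
  refine ⟨_, L02.CAlg.QFSlice.isWeaklyRegular_of_flat_poly (A := MvPolynomial (Fin m) A) (c := r), ?_⟩
  have hX : ∀ i, algebraMap (MvPolynomial (Fin r) (MvPolynomial (Fin m) A)) D (MvPolynomial.X i) =
      algebraMap B D (g i) := fun i => by
    show ε (MvPolynomial.aeval (Sum.elim (fun i => algebraMap B L (g i)) g')
      ((MvPolynomial.sumAlgEquiv A (Fin r) (Fin m)).symm (MvPolynomial.X i))) = _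
    rw [MvPolynomial.sumAlgEquiv_symm_X, MvPolynomial.aeval_X, Sum.elim_inl, AlgEquiv.commutes]
  rw [show algebraMap B D = ε.toRingEquiv.toRingHom.comp (algebraMap B L) from
    RingHom.ext fun b => (ε.commutes b).symm, ← Ideal.map_map, hJf, Ideal.map_span, ← Set.range_comp]
  refine congrArg Ideal.span (Set.ext fun x => ?_)
  simp only [Set.mem_setOf_eq, List.mem_ofFn, Set.mem_range, Function.comp_apply, hX]
  constructor
  · rintro ⟨i, rfl⟩; exact ⟨i, (ε.commutes _).symm⟩
  · rintro ⟨i, rfl⟩; exact ⟨i, ε.commutes _⟩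

variable {P X S : Scheme.{u}}

/-- Around every point the ideal of a smooth closed subscheme of a smooth scheme is cut out by a regular
sequence. -/
theorem exists_regular_affine (g : P ⟶ S) [Smooth g] (i : X ⟶ P) [IsClosedImmersion i] [Smooth (i ≫ g)] (x : X) :
    ∃ (U : P.affineOpens) (rs : List Γ(P, U.1)), i x ∈ U.1 ∧ RegImm.Kind.regular.Seq Γ(P, U.1) rs ∧
      RingHom.ker (i.app U.1).hom = Ideal.ofList rs := by
  obtain ⟨_, ⟨V, hV, rfl⟩, hxV, -⟩ :=
    S.isBasis_affineOpens.exists_subset_of_mem_open (show g (i x) ∈ (⊤ : S.Opens) from trivial) isOpen_univ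
  obtain ⟨_, ⟨W, hW, rfl⟩, hxW, hWV⟩ :=
    P.isBasis_affineOpens.exists_subset_of_mem_open (show i x ∈ g ⁻¹ᵁ V from hxV) (g ⁻¹ᵁ V).2
  have e : W ≤ g ⁻¹ᵁ V := hWV
  have hX' : IsAffineOpen (i ⁻¹ᵁ W) := hW.preimage i
  let A := Γ(S, V)
  let B := Γ(P, W)
  letI : Algebra A B := (g.appLE V W e).hom.toAlgebra
  haveI : Algebra.Smooth A B := Scheme.Hom.smooth_appLE g hV hW e
  let J := RingHom.ker (i.app W).hom
  let ε : (B ⧸ J) ≃+* Γ(X, i ⁻¹ᵁ W) := RingHom.quotientKerEquivOfSurjective (i.app_surjective W hW)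
  haveI : Algebra.Smooth A (B ⧸ J) := by
    have h1 : ((i ≫ g).appLE V (i ⁻¹ᵁ W) (i.preimage_mono e)).hom.Smooth := Scheme.Hom.smooth_appLE _ hV hX' _
    have h2 := RingHom.Smooth.respectsIso.1 _ ε.symm h1
    have h3 : (ε.symm : Γ(X, i ⁻¹ᵁ W) →+* B ⧸ J).comp ((i ≫ g).appLE V (i ⁻¹ᵁ W) (i.preimage_mono e)).hom =
        algebraMap A (B ⧸ J) := by
      refine RingHom.ext fun a => ε.injective ((ε.apply_symm_apply _).trans ?_)
      rw [Scheme.Hom.comp_appLE]
      show i.appLE (g ⁻¹ᵁ V) (i ⁻¹ᵁ W) _ (g.app V a) = i.app W (g.appLE V W e a)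
      rw [Scheme.Hom.app_eq_appLE (f := i) (U := W)]
      show _ = (g.appLE V W e ≫ i.appLE W (i ⁻¹ᵁ W) le_rfl) a
      rw [Scheme.Hom.appLE_comp_appLE, Scheme.Hom.comp_appLE]
      rfl
    rw [← RingHom.smooth_algebraMap]
    exact h3 ▸ h2
  have hJ : J.FG := by
    have h := Algebra.FinitePresentation.ker_fG_of_surjective (Ideal.Quotient.mkₐ A J) Ideal.Quotient.mk_surjective
    rwa [show RingHom.ker (Ideal.Quotient.mkₐ A J).toRingHom = J from Ideal.mk_ker] at h
  let q := (hW.primeIdealOf ⟨i x, hxW⟩).asIdeal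
  have hfs : hW.fromSpec (hW.primeIdealOf ⟨i x, hxW⟩) = i x := hW.fromSpec_primeIdealOf ⟨i x, hxW⟩
  have hJq : J ≤ q := fun a ha => by
    by_contra hn
    have h1 : i x ∈ P.basicOpen a := hfs ▸
      (show hW.primeIdealOf ⟨i x, hxW⟩ ∈ hW.fromSpec ⁻¹ᵁ P.basicOpen a from
        (hW.fromSpec_preimage_basicOpen a).symm ▸ hn)
    have h2 : x ∈ i ⁻¹ᵁ P.basicOpen a := h1
    rw [Scheme.preimage_basicOpen, RingHom.mem_ker.1 ha, Scheme.basicOpen_zero] at h2
    exact h2
  let Q : Ideal (B ⧸ J) := q.map (Ideal.Quotient.mk J)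
  haveI : Q.IsPrime := Ideal.map_isPrime_of_surjective Ideal.Quotient.mk_surjective (Ideal.mk_ker.le.trans hJq)
  have hQ : Q.comap (Ideal.Quotient.mk J) = q := by
    rw [Ideal.comap_map_of_surjective _ Ideal.Quotient.mk_surjective, ← RingHom.ker_eq_comap_bot, Ideal.mk_ker,
      sup_eq_left.2 hJq]
  obtain ⟨f, hf, H⟩ := exists_regular_away A B J hJ q hJq Q hQ
  letI : Algebra B Γ(P, P.basicOpen f) := (P.presheaf.map (homOfLE (P.basicOpen_le f)).op).hom.toAlgebra
  haveI : IsLocalization.Away f Γ(P, P.basicOpen f) := hW.isLocalization_basicOpen f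
  obtain ⟨rs, hrs, hmap⟩ := H Γ(P, P.basicOpen f)
  have hxf : i x ∈ P.basicOpen f := by
    rw [← hfs]
    show hW.primeIdealOf ⟨i x, hxW⟩ ∈ hW.fromSpec ⁻¹ᵁ P.basicOpen f
    exact (hW.fromSpec_preimage_basicOpen f).symm ▸ hf
  have hker : RingHom.ker (i.app (P.basicOpen f)).hom = Ideal.ofList rs :=
    (Groth.L22.FLI.ker_basicOpen ⟨W, hW⟩ f).symm.trans hmap
  refine ⟨⟨P.basicOpen f, hW.basicOpen f⟩, rs, hxf, ⟨hrs, fun htop => ?_⟩, hker⟩
  rw [smul_eq_mul, Ideal.mul_top] at htop
  have h1 : (1 : Γ(P, P.basicOpen f)) ∈ RingHom.ker (i.app (P.basicOpen f)).hom := by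
    rw [hker, ← htop]; trivial
  rw [RingHom.mem_ker, map_one] at h1
  have h2 : X.basicOpen (1 : Γ(X, i ⁻¹ᵁ P.basicOpen f)) = i ⁻¹ᵁ P.basicOpen f :=
    Scheme.basicOpen_of_isUnit _ isUnit_one
  rw [h1, Scheme.basicOpen_zero] at h2
  have : x ∈ (⊥ : X.Opens) := h2 ▸ hxf
  exact this

end Groth.L22.Adjunction
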