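import Groth.Agent.L22.Adjunction.HodgeSymm
import Groth.Agent.L22.Reg.Pn

/-!
The symmetry of the dimensions of the cohomology of twisted differential forms.
-/

set_option autoImplicit false
set_option backward.isDefEq.respectTransparency false
set_option linter.style.haveILetI false
universe u

open CategoryTheory CategoryTheory.Limits AlgebraicGeometry TopologicalSpace Opposite

noncomputable section

namespace Groth.L22.Adjunction

open Groth.L16.HomSh (homMod homModF tensorHomAdj)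
open Groth.L00.Tensor (tensorLeftF tensorMap tensorAssoc tensorIso tensorComm tensorUnitLeft)

/-- Tensoring with a tensor product on the left. -/
def tensorLeftTensor {X : Scheme.{u}} (L T : X.Modules) :
    tensorLeftF T ⋙ tensorLeftF L ≅ tensorLeftF (CohB1.tensorMod L T) :=
  NatIso.ofComponents (fun M => (tensorAssoc L T M).symm) fun {M N} f => by
    show tensorMap (𝟙 L) (tensorMap (𝟙 T) f) ≫ (tensorAssoc L T N).inv =
      (tensorAssoc L T M).inv ≫ tensorMap (𝟙 _) f
    rw [Iso.comp_inv_eq, Category.assoc, ← Groth.L00.Tensor.tensorMap_id L T,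
      Groth.L29.DC.Assoc.assoc_natural (𝟙 L) (𝟙 T) f, Iso.inv_hom_id_assoc]

variable (k : Type u) [Field k] (n : ℕ) (X : Scheme.{u}) [X.Over (Spec (CommRingCat.of k))]
  [SmoothOfRelativeDimension n (X ↘ Spec (CommRingCat.of k))] [Nonempty X]
  {r : ℕ} (ι : X ⟶ CohB1.ProjSpace r k) [IsClosedImmersion ι]
  (hι : ι ≫ CohB1.ProjSpace.toSpec r k = X ↘ Spec (CommRingCat.of k))

include hι in
/-- `h^q(Ω^p ⊗ T) = h^(n-q)(Ω^(n-p) ⊗ T⁻¹)`. -/
theorem finrank_symm_twist (p q : ℕ) (hp : p ≤ n) (hq : q ≤ n) (L L' T T' : X.Modules)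
    (hL : ExtPow.IsExtPow p (Omega.sheaf (X ↘ Spec (CommRingCat.of k))) L)
    (hL' : ExtPow.IsExtPow (n - p) (Omega.sheaf (X ↘ Spec (CommRingCat.of k))) L')
    (hT : PicF.IsInvertible T) (eT : CohB1.tensorMod T T' ≅ Coh.structureModule X) :
    Module.finrank k (Coh.HH X (CohB1.tensorMod L T) q) =
      Module.finrank k (Coh.HH X (CohB1.tensorMod L' T') (n - q)) := by
  haveI := isProper_of_closed k X ι hι
  haveI := Groth.L21.RR.isNoetherian_of_proper (X := X) k
  haveI := Groth.L00.Tensor.grothendieckAbelian_modules X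
  haveI : HasExt.{u} X.Modules := inferInstance
  have hE := Groth.L02.Canon.isFinLocFreeOfRank_omega (f := X ↘ Spec (CommRingCat.of k)) n
  obtain ⟨D, hD, -⟩ := exists_isExtPow hE
  have hD' := hD
  obtain ⟨φa, ha⟩ := hL
  obtain ⟨φb, hb⟩ := hL'
  obtain ⟨φn, hn⟩ := hD'
  obtain ⟨e⟩ := Groth.L22.WedgePair.nonempty_iso_homMod φa φb φn (Nat.add_sub_cancel' hp) ha hb hn hE
  have hLf : FlatMod.IsFinLocFree (CohB1.tensorMod L T) :=
    Groth.L29.DC.isFinLocFree_tensor (Groth.L22.WedgePair.isFinLocFree_extPow φa ha hE)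
      (Groth.L20.ResDescent.isFinLocFree_of_isInvertible hT)
  let F := CohB1.tensorMod L T
  let adj : (DCoh.tensorBi (X := X)).obj F ⊣ homModF L ⋙ homModF T :=
    ((tensorHomAdj T).comp (tensorHomAdj L)).ofNatIsoLeft (tensorLeftTensor L T ≪≫ Groth.L22.PDual.biIso F)
  haveI : DCoh.HasSheafHom F := ⟨_, ⟨adj⟩⟩
  let eS : DCoh.sheafHom F ≅ homModF L ⋙ homModF T := (DCoh.sheafHomAdj F).rightAdjointUniq adj
  obtain ⟨-, h2⟩ := finite_ext_and_finrank k n X ι hι hD (Groth.L16.NegPow.isCoh_of_isFinLocFree hLf)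
    (i := n - q) (Nat.sub_le n q)
  rw [Nat.sub_sub_self hq] at h2
  obtain ⟨e1⟩ := Groth.L22.PDual.nonempty_ext_linearEquiv (k := k) F hLf (n - q) D
  obtain ⟨u⟩ := nonempty_homMod_tensor hT (CohB1.tensorMod L' T')
  let w : CohB1.tensorMod T (CohB1.tensorMod L' T') ≅ L' :=
    (tensorAssoc T L' T').symm ≪≫ tensorIso (tensorComm T L') (Iso.refl T') ≪≫ tensorAssoc L' T T' ≪≫
      tensorIso (Iso.refl L') eT ≪≫ Groth.L00.Tensor.tensorUnitRight L'
  let v : (DCoh.sheafHom F).obj D ≅ CohB1.tensorMod L' T' :=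
    eS.app D ≪≫ (homModF T).mapIso (e.symm ≪≫ w.symm) ≪≫ u
  let φ := Groth.L16.CohLinear.hmap v.hom (n - q)
  let ψ := Groth.L16.CohLinear.hmap v.inv (n - q)
  have h1 : ∀ x, ψ (φ x) = x := fun x => by
    rw [← Groth.L16.CohLinear.hmap_comp, Iso.hom_inv_id, Groth.L16.CohLinear.hmap_id]
  have h3 : ∀ x, φ (ψ x) = x := fun x => by
    rw [← Groth.L16.CohLinear.hmap_comp, Iso.inv_hom_id, Groth.L16.CohLinear.hmap_id]
  let e2 : Coh.HH X ((DCoh.sheafHom F).obj D) (n - q) ≃ₗ[k] Coh.HH X (CohB1.tensorMod L' T') (n - q) :=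
    { toFun := φ, invFun := ψ, left_inv := h1, right_inv := h3
      map_add' := map_add φ
      map_smul' := fun c x => φ.map_smul (Coh.toGlobal (X ↘ Spec (CommRingCat.of k)) c) x }
  rw [← h2]
  exact (e1.trans e2).finrank_eq

end Groth.L22.Adjunction
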